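import Mathlib

/-!
The hyperbolic model of `SU_n` and the factorisation property asked of the general linear Levi factor.
-/

set_option autoImplicit false

namespace H31.Com.Uni

open Matrix Polynomial

/-- A field automorphism of order two. -/
class Invol {K : Type*} [Field K] (σ : K →+* K) : Prop where
  invol : ∀ x, σ (σ x) = x
  nontriv : ∃ x, σ x ≠ x

/-- The index type: two totally isotropic halves and a middle part. -/
abbrev Idx (m e : ℕ) := (Fin m ⊕ Fin m) ⊕ Fin e

/-- The Gram matrix of `x · σy' + y · σx' + z · σz'`. -/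
def gram (m e : ℕ) (K : Type*) [Field K] : Matrix (Idx m e) (Idx m e) K :=
  fromBlocks (fromBlocks 0 1 1 0) 0 0 1

/-- The determinant condition on the first factor: the middle entry is `σ (det A) / det A`. -/
def DetOK {K : Type*} [Field K] (σ : K →+* K) (e : ℕ) {m : ℕ} (A : Matrix (Fin m) (Fin m) K) (Φ : K[X]) : Prop :=
  (e = 0 → σ A.det = A.det) ∧ (e = 1 → Φ.eval (σ A.det / A.det) ≠ 0)

/-- `M` is `A · (conjugate of A⁻¹)`, or in characteristic two `A · (conjugate of A*)`, with `A` free on both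
radicals. -/
def CFac {K : Type*} [Field K] (σ : K →+* K) (e : ℕ) {m : ℕ} (M : Matrix (Fin m) (Fin m) K) : Prop :=
  ∃ (Φ : K[X]) (A P : Matrix (Fin m) (Fin m) K), A.det ≠ 0 ∧ P.det = 1 ∧ aeval A Φ = 0 ∧
    IsCoprime Φ (Φ.map σ).reverse ∧ DetOK σ e A Φ ∧
    (M * P * A = A * P ∨ ((2 : K) = 0 ∧ M * P = A * P * (A.map σ)ᵀ))

/-- The factorisations needed in `SL_m`. -/
def SLFacU {K : Type*} [Field K] (σ : K →+* K) (m e : ℕ) : Prop :=
  ∀ M : Matrix (Fin m) (Fin m) K, M.det = 1 → (∀ μ : K, M ≠ μ • 1) → CFac σ e M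

/-- The special unitary group of the model. -/
def Model {K : Type*} [Field K] (σ : K →+* K) (m e : ℕ) : Subgroup (GL (Idx m e) K) where
  carrier := {g | g.val.det = 1 ∧ g.valᵀ * gram m e K * g.val.map σ = gram m e K}
  one_mem' := by simp
  mul_mem' := by
    rintro g h ⟨g1, g2⟩ ⟨h1, h2⟩
    refine ⟨by rw [Units.val_mul, det_mul, g1, h1, one_mul], ?_⟩
    rw [Units.val_mul, transpose_mul, Matrix.map_mul]
    calc h.valᵀ * g.valᵀ * gram m e K * (g.val.map σ * h.val.map σ)
        = h.valᵀ * (g.valᵀ * gram m e K * g.val.map σ) * h.val.map σ := by simp only [Matrix.mul_assoc]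
      _ = gram m e K := by rw [g2, h2]
  inv_mem' := by
    rintro g ⟨g1, g2⟩
    have e1 : g.val * (g⁻¹ : GL (Idx m e) K).val = 1 := g.mul_inv
    refine ⟨?_, ?_⟩
    · have := congrArg Matrix.det e1
      rwa [det_mul, g1, one_mul, det_one] at this
    · have e2 : g.val.map σ * (g⁻¹ : GL (Idx m e) K).val.map σ = 1 := by
        rw [← Matrix.map_mul, e1, Matrix.map_one σ (map_zero σ) (map_one σ)]
      conv_lhs => rw [← g2]
      calc (g⁻¹ : GL (Idx m e) K).valᵀ * (g.valᵀ * gram m e K * g.val.map σ) * (g⁻¹ : GL (Idx m e) K).val.map σ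
          = (g.val * (g⁻¹ : GL (Idx m e) K).val)ᵀ * gram m e K *
              (g.val.map σ * (g⁻¹ : GL (Idx m e) K).val.map σ) := by simp only [transpose_mul, Matrix.mul_assoc]
        _ = gram m e K := by rw [e1, e2, transpose_one, Matrix.one_mul, Matrix.mul_one]

/-- Every element is a commutator. -/
def AllComm {K : Type*} [Field K] (σ : K →+* K) (m e : ℕ) : Prop :=
  ∀ g : Model σ m e, ∃ a b : Model σ m e, g = a * b * a⁻¹ * b⁻¹

end H31.Com.Uni
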