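import Cfsg.Agent.H31.Unitary.Code

/-!
Witnesses for the units over four elements.
-/

set_option autoImplicit false
set_option maxRecDepth 100000
set_option maxHeartbeats 4000000
set_option linter.style.longLine false

namespace H31.Com.Uni.D4

open H31.Com

/-- Key, blocks of `A`, witness. -/
def ids : List (List (List ℕ) × List (List ℕ) × Wit) :=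
  [([[1],[1]],[[1,2]],[[3,3],[1,2]],[[1,2],[3,2]],[[1,0],[3,1]],[[1,1],[0,1]],[[1,0],[1,1]]),
  ([[1],[1],[1]],[[1,1,0]],[[0,2,3],[1,0,2],[1,2,2]],[[3,2,3],[0,3,3],[2,2,2]],[[1,0,0],[3,1,0],[1,3,1]],[[1,3,3],[0,1,2],[0,0,1]],[[1,0,0],[0,1,0],[2,1,1]]),
  ([[2],[3]],[[1,2]],[[3,1],[2,0]],[[0,3],[1,2]],[[1,0],[2,1]],[[1,3],[0,1]],[[1,0],[0,1]]),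
  ([[3],[2]],[[1,2]],[[1,3],[0,2]],[[1,2],[0,3]],[[1,0],[2,1]],[[1,2],[0,1]],[[1,0],[1,1]]),
  ([[2],[2],[2],[2],[2],[2]],[[1,2],[2,1],[3,3]],[[3,1,1,2,2,3],[1,0,1,0,1,1],[1,3,3,3,1,0],[3,0,3,1,1,3],[0,3,0,0,0,2],[1,1,0,2,0,3]],[[1,0,1,3,1,1],[2,0,1,2,2,1],[0,3,1,2,0,3],[3,0,3,2,2,0],[2,2,2,2,1,0],[3,0,2,3,0,2]],[[1,0,0,0,0,0],[2,1,0,0,0,0],[0,0,1,0,0,0],[0,0,0,1,0,0],[2,2,1,1,1,0],[2,3,1,0,2,1]],[[1,2,3,2,0,0],[0,1,0,1,0,0],[0,0,1,0,2,0],[0,0,0,1,3,3],[0,0,0,0,1,3],[0,0,0,0,0,1]],[[1,0,0,0,0,0],[0,1,0,0,0,0],[2,0,1,0,0,0],[0,1,0,1,0,0],[1,0,3,0,1,0],[1,2,3,2,1,1]]),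
  ([[1],[2],[2],[2]],[[1,1,2,1]],[[3,3,1,3],[3,1,2,1],[1,1,2,0],[1,3,0,3]],[[1,3,0,0],[0,1,1,2],[3,1,0,1],[2,0,1,0]],[[1,0,0,0],[2,1,0,0],[0,1,1,0],[1,0,0,1]],[[1,0,1,3],[0,1,3,1],[0,0,1,3],[0,0,0,1]],[[1,0,0,0],[0,1,0,0],[0,2,1,0],[0,3,2,1]]),
  ([[1],[1],[2],[2],[2]],[[1,0,0,1,0]],[[2,0,0,2,1],[2,2,1,0,0],[1,2,0,0,0],[3,1,3,3,2],[0,1,2,2,2]],[[2,3,0,1,0],[1,2,3,3,0],[1,3,1,3,0],[0,1,1,1,1],[2,3,2,0,2]],[[1,0,0,0,0],[0,1,0,0,0],[1,3,1,0,0],[2,2,3,1,0],[0,0,2,3,1]],[[1,2,3,3,3],[0,1,3,3,3],[0,0,1,0,1],[0,0,0,1,3],[0,0,0,0,1]],[[1,0,0,0,0],[3,1,0,0,0],[3,0,1,0,0],[3,1,2,1,0],[3,3,0,0,1]]),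
  ([[1],[2],[3]],[[1,1,0]],[[2,1,0],[3,3,2],[2,3,1]],[[3,2,3],[0,3,1],[1,1,3]],[[1,0,0],[1,1,0],[3,3,1]],[[1,0,1],[0,1,2],[0,0,1]],[[1,0,0],[1,1,0],[3,3,1]]),
  ([[2],[2],[2],[2],[3]],[[1,0,0,1,0]],[[2,1,3,0,0],[2,2,2,3,0],[0,3,2,3,0],[2,3,2,3,2],[3,0,0,0,2]],[[0,0,1,1,1],[0,1,3,2,2],[2,2,2,0,0],[1,0,0,2,2],[0,0,2,2,1]],[[1,0,0,0,0],[2,1,0,0,0],[2,2,1,0,0],[3,3,0,1,0],[0,0,1,0,1]],[[1,0,0,3,2],[0,1,0,1,1],[0,0,1,3,0],[0,0,0,1,2],[0,0,0,0,1]],[[1,0,0,0,0],[2,1,0,0,0],[3,2,1,0,0],[3,2,1,1,0],[0,0,0,0,1]]),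
  ([[1],[2],[2],[2],[2],[2],[2]],[[1,1,0],[1,1,2,1]],[[2,0,3,2,1,1,2],[2,0,2,3,1,2,3],[3,2,0,0,3,0,0],[0,2,0,1,3,2,3],[1,2,1,0,3,0,1],[3,2,2,2,2,1,0],[3,2,3,3,1,0,0]],[[0,1,2,1,0,0,3],[2,1,2,2,1,3,1],[2,2,2,2,3,2,1],[1,3,3,2,1,3,3],[1,2,1,0,3,2,0],[0,0,2,0,0,1,3],[2,0,0,0,2,2,0]],[[1,0,0,0,0,0,0],[3,1,0,0,0,0,0],[1,1,1,0,0,0,0],[0,2,0,1,0,0,0],[3,3,1,1,1,0,0],[3,1,0,2,3,1,0],[0,3,3,3,2,0,1]],[[1,2,1,1,0,0,3],[0,1,0,3,1,1,0],[0,0,1,1,0,1,2],[0,0,0,1,0,1,3],[0,0,0,0,1,2,1],[0,0,0,0,0,1,2],[0,0,0,0,0,0,1]],[[1,0,0,0,0,0,0],[3,1,0,0,0,0,0],[0,0,1,0,0,0,0],[1,2,0,1,0,0,0],[1,2,0,1,1,0,0],[3,1,0,3,3,1,0],[2,3,0,2,2,3,1]]),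
  ([[3],[3],[3],[3],[3],[3]],[[1,2],[2,1],[3,3]],[[0,0,1,1,2,1],[1,0,3,1,3,0],[3,1,2,3,0,1],[3,1,1,0,3,2],[0,3,3,3,2,1],[3,2,1,1,0,0]],[[1,0,0,0,1,2],[3,1,2,0,1,0],[1,2,3,1,0,1],[3,0,0,1,1,1],[2,0,3,3,0,0],[0,2,2,1,1,0]],[[1,0,0,0,0,0],[0,1,0,0,0,0],[3,0,1,0,0,0],[0,2,0,1,0,0],[0,0,0,2,1,0],[0,0,2,1,1,1]],[[1,0,2,0,2,0],[0,1,0,3,2,1],[0,0,1,0,1,0],[0,0,0,1,3,2],[0,0,0,0,1,3],[0,0,0,0,0,1]],[[1,0,0,0,0,0],[0,1,0,0,0,0],[0,0,1,0,0,0],[0,0,0,1,0,0],[3,0,1,0,1,0],[1,1,2,3,2,1]]),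
  ([[1],[3],[3],[3]],[[1,1,2,1]],[[2,0,0,2],[3,3,2,1],[0,1,3,0],[2,3,1,3]],[[2,3,2,0],[0,3,0,1],[0,1,2,2],[1,3,2,0]],[[1,0,0,0],[2,1,0,0],[0,1,1,0],[0,1,2,1]],[[1,3,3,1],[0,1,1,2],[0,0,1,2],[0,0,0,1]],[[1,0,0,0],[0,1,0,0],[0,2,1,0],[0,0,0,1]]),
  ([[1],[1],[3],[3],[3]],[[1,0,0,1,0]],[[0,1,0,2,1],[3,0,0,2,0],[3,3,1,0,1],[3,2,3,1,1],[3,3,0,1,3]],[[1,0,0,0,2],[0,3,2,3,2],[1,0,2,1,3],[2,3,0,0,3],[2,2,2,3,3]],[[1,0,0,0,0],[2,1,0,0,0],[2,0,1,0,0],[1,1,1,1,0],[0,2,3,0,1]],[[1,3,2,1,3],[0,1,2,3,2],[0,0,1,2,1],[0,0,0,1,3],[0,0,0,0,1]],[[1,0,0,0,0],[3,1,0,0,0],[0,0,1,0,0],[0,0,0,1,0],[2,3,1,2,1]]),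
  ([[1],[3],[2]],[[1,1,0]],[[1,2,0],[1,1,3],[0,1,2]],[[3,2,3],[1,1,2],[3,3,2]],[[1,0,0],[3,1,0],[1,3,1]],[[1,3,2],[0,1,3],[0,0,1]],[[1,0,0],[0,1,0],[2,2,1]]),
  ([[3],[3],[3],[3],[2]],[[1,0,0,1,0]],[[1,0,0,3,3],[0,0,1,2,2],[2,0,3,1,2],[2,1,0,0,3],[1,3,1,1,0]],[[2,3,2,1,2],[0,3,1,1,0],[2,3,1,3,1],[0,2,0,1,2],[1,3,3,3,1]],[[1,0,0,0,0],[2,1,0,0,0],[3,2,1,0,0],[2,1,3,1,0],[1,0,3,1,1]],[[1,1,3,2,2],[0,1,3,1,1],[0,0,1,1,0],[0,0,0,1,3],[0,0,0,0,1]],[[1,0,0,0,0],[0,1,0,0,0],[2,0,1,0,0],[2,1,1,1,0],[3,2,2,2,1]]),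
  ([[1],[3],[3],[3],[3],[3],[3]],[[1,1,0],[1,1,2,1]],[[1,1,2,0,3,3,3],[0,0,1,2,2,1,3],[3,2,3,3,0,0,2],[1,0,1,1,2,2,0],[2,0,1,0,2,2,0],[1,1,2,1,0,1,2],[2,0,0,1,0,3,1]],[[0,2,2,2,0,3,3],[1,0,2,3,1,3,1],[3,0,1,0,1,1,2],[0,1,1,0,1,2,2],[2,3,1,3,0,0,1],[0,1,0,1,0,0,3],[0,1,2,0,1,3,0]],[[1,0,0,0,0,0,0],[2,1,0,0,0,0,0],[2,3,1,0,0,0,0],[0,3,3,1,0,0,0],[3,3,2,0,1,0,0],[3,0,1,2,3,1,0],[0,3,3,1,2,0,1]],[[1,3,1,3,2,0,0],[0,1,0,2,2,1,0],[0,0,1,2,0,0,0],[0,0,0,1,2,3,1],[0,0,0,0,1,0,0],[0,0,0,0,0,1,1],[0,0,0,0,0,0,1]],[[1,0,0,0,0,0,0],[3,1,0,0,0,0,0],[0,0,1,0,0,0,0],[0,0,1,1,0,0,0],[0,0,3,3,1,0,0],[0,0,0,0,0,1,0],[0,0,0,0,0,1,1]])]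

theorem ids_ok : ids.all (fun e => chk4 false e.1 e.2.1 e.2.2) = true := by decide +kernel

/-- Key, blocks of `A`, witness. -/
def jay : List (List (List ℕ) × List (List ℕ) × Wit) :=
  [([[1,0],[1,0]],[[1,1,2,1]],[[0,1,2,0],[1,1,1,0],[0,3,2,0],[2,3,0,3]],[[2,1,1,0],[3,0,3,0],[1,0,2,0],[2,3,0,2]],[[1,0,0,0],[1,1,0,0],[2,0,1,0],[3,1,1,1]],[[1,1,1,0],[0,1,1,2],[0,0,1,1],[0,0,0,1]],[[1,0,0,0],[0,1,0,0],[0,2,1,0],[0,2,1,1]]),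
  ([[1,0],[1,0],[1,0]],[[1,2],[2,1],[3,3]],[[1,1,2,2,0,0],[0,3,2,2,3,1],[2,2,0,3,2,3],[2,0,2,2,3,2],[1,3,1,3,1,1],[1,3,1,0,3,2]],[[1,2,3,2,0,2],[1,2,0,2,3,1],[1,0,1,1,1,0],[2,0,3,1,3,2],[0,2,2,0,3,0],[2,1,2,1,3,0]],[[1,0,0,0,0,0],[3,1,0,0,0,0],[1,0,1,0,0,0],[2,3,1,1,0,0],[3,0,0,2,1,0],[1,3,0,0,2,1]],[[1,0,1,3,2,0],[0,1,1,0,2,0],[0,0,1,2,3,3],[0,0,0,1,2,2],[0,0,0,0,1,3],[0,0,0,0,0,1]],[[1,0,0,0,0,0],[3,1,0,0,0,0],[2,3,1,0,0,0],[2,3,1,1,0,0],[0,0,0,0,1,0],[0,0,0,0,3,1]]),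
  ([[1,0],[1],[1]],[[2,1],[3,3]],[[1,3,1,0],[1,3,3,3],[2,3,1,2],[1,2,0,3]],[[0,2,1,1],[1,0,1,3],[2,2,2,3],[3,3,1,2]],[[1,0,0,0],[1,1,0,0],[1,2,1,0],[3,1,1,1]],[[1,3,1,2],[0,1,2,2],[0,0,1,1],[0,0,0,1]],[[1,0,0,0],[2,1,0,0],[1,2,1,0],[3,1,0,1]]),
  ([[1,0],[1],[1],[1]],[[1,2],[1,1,0]],[[1,1,3,2,3],[1,1,0,3,3],[2,1,3,0,2],[2,1,3,2,3],[2,1,1,1,1]],[[2,0,0,2,0],[0,3,2,3,3],[0,0,1,2,3],[1,1,3,1,2],[2,2,0,3,3]],[[1,0,0,0,0],[1,1,0,0,0],[0,2,1,0,0],[0,3,2,1,0],[0,3,2,2,1]],[[1,3,0,2,2],[0,1,1,3,1],[0,0,1,2,3],[0,0,0,1,3],[0,0,0,0,1]],[[1,0,0,0,0],[2,1,0,0,0],[1,3,1,0,0],[0,0,0,1,0],[0,0,0,2,1]]),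
  ([[1,0],[2],[3]],[[1,1,2,1]],[[2,0,1,3],[3,2,0,3],[2,0,2,1],[1,1,0,0]],[[2,0,1,0],[2,0,1,1],[0,1,3,2],[3,2,2,3]],[[1,0,0,0],[0,1,0,0],[3,0,1,0],[1,0,2,1]],[[1,2,1,0],[0,1,2,0],[0,0,1,2],[0,0,0,1]],[[1,0,0,0],[2,1,0,0],[1,3,1,0],[2,1,2,1]]),
  ([[1,0],[1],[2],[3]],[[1,0,0,1,0]],[[3,2,1,2,2],[2,2,3,3,3],[0,2,2,1,0],[1,0,2,0,1],[1,3,1,0,2]],[[2,3,1,1,0],[0,3,2,0,1],[3,0,1,3,1],[1,1,0,1,0],[3,3,3,1,2]],[[1,0,0,0,0],[1,1,0,0,0],[2,3,1,0,0],[1,2,1,1,0],[1,1,0,3,1]],[[1,3,3,2,0],[0,1,1,3,2],[0,0,1,0,2],[0,0,0,1,0],[0,0,0,0,1]],[[1,0,0,0,0],[1,1,0,0,0],[1,2,1,0,0],[1,0,0,1,0],[1,2,3,3,1]]),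
  ([[1,0],[2],[2],[2]],[[1,0,0,1,0]],[[3,0,1,3,2],[1,1,3,0,0],[0,0,2,3,0],[3,0,2,3,3],[2,0,2,1,1]],[[2,0,3,3,1],[1,1,2,3,0],[1,0,2,0,2],[3,0,3,0,1],[2,0,1,1,1]],[[1,0,0,0,0],[2,1,0,0,0],[0,0,1,0,0],[0,3,1,1,0],[2,2,3,1,1]],[[1,3,1,3,2],[0,1,2,1,2],[0,0,1,2,2],[0,0,0,1,0],[0,0,0,0,1]],[[1,0,0,0,0],[0,1,0,0,0],[1,1,1,0,0],[2,3,0,1,0],[1,0,2,0,1]]),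
  ([[1,0],[1],[2],[2],[2]],[[1,2],[2,1],[3,3]],[[0,1,3,0,3,3],[2,3,3,1,1,1],[2,0,2,0,0,2],[1,1,1,3,1,2],[2,3,0,2,1,3],[3,0,3,3,3,1]],[[3,1,2,3,1,2],[1,2,0,3,3,2],[3,0,2,2,2,3],[3,1,0,1,2,0],[3,2,1,2,0,1],[0,1,3,1,3,1]],[[1,0,0,0,0,0],[0,1,0,0,0,0],[0,2,1,0,0,0],[1,0,2,1,0,0],[2,1,2,2,1,0],[2,1,0,3,1,1]],[[1,0,3,1,2,0],[0,1,3,0,3,3],[0,0,1,2,1,2],[0,0,0,1,2,1],[0,0,0,0,1,1],[0,0,0,0,0,1]],[[1,0,0,0,0,0],[0,1,0,0,0,0],[0,2,1,0,0,0],[0,1,3,1,0,0],[0,2,1,2,1,0],[0,2,1,2,1,1]]),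
  ([[1,0],[2],[2],[2],[2],[2],[2]],[[2,1],[3,3],[1,1,2,1]],[[1,3,3,1,0,3,0,2],[2,0,3,3,2,0,2,2],[2,1,3,0,0,3,3,1],[0,0,1,3,0,3,3,2],[2,2,2,2,0,3,1,2],[3,1,1,2,2,1,0,0],[0,3,3,2,3,3,1,3],[0,1,1,1,3,0,1,2]],[[1,2,2,2,3,2,1,1],[2,1,1,0,0,3,2,3],[1,1,1,0,1,1,3,3],[1,2,3,0,1,2,0,0],[1,2,3,0,2,0,0,3],[0,1,1,1,2,1,2,2],[2,0,3,1,1,2,2,3],[2,2,1,3,0,1,2,0]],[[1,0,0,0,0,0,0,0],[3,1,0,0,0,0,0,0],[1,2,1,0,0,0,0,0],[3,0,1,1,0,0,0,0],[2,0,1,3,1,0,0,0],[2,3,1,1,2,1,0,0],[2,3,2,0,1,2,1,0],[3,0,3,0,2,0,3,1]],[[1,2,2,0,0,0,3,3],[0,1,0,3,0,1,0,3],[0,0,1,1,2,2,0,2],[0,0,0,1,3,0,3,2],[0,0,0,0,1,0,3,3],[0,0,0,0,0,1,2,3],[0,0,0,0,0,0,1,1],[0,0,0,0,0,0,0,1]],[[1,0,0,0,0,0,0,0],[1,1,0,0,0,0,0,0],[3,3,1,0,0,0,0,0],[3,3,1,1,0,0,0,0],[0,0,0,0,1,0,0,0],[0,0,0,0,0,1,0,0],[0,0,0,0,0,0,1,0],[0,0,0,0,0,2,3,1]]),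
  ([[1,0],[3],[2]],[[1,1,2,1]],[[1,2,3,2],[0,0,3,3],[3,0,1,3],[3,0,2,2]],[[0,1,0,2],[3,2,2,3],[0,1,3,3],[0,3,3,3]],[[1,0,0,0],[2,1,0,0],[0,1,1,0],[0,3,2,1]],[[1,3,3,0],[0,1,2,3],[0,0,1,1],[0,0,0,1]],[[1,0,0,0],[0,1,0,0],[0,2,1,0],[1,2,2,1]]),
  ([[1,0],[1],[3],[2]],[[1,0,0,1,0]],[[0,1,1,2,1],[3,2,1,2,3],[1,0,0,1,1],[3,3,2,3,2],[1,1,1,2,0]],[[3,2,0,1,3],[0,1,0,2,2],[1,3,2,3,2],[1,0,1,0,1],[2,2,0,1,2]],[[1,0,0,0,0],[1,1,0,0,0],[1,3,1,0,0],[3,2,1,1,0],[0,1,1,0,1]],[[1,1,0,3,0],[0,1,0,0,2],[0,0,1,3,2],[0,0,0,1,3],[0,0,0,0,1]],[[1,0,0,0,0],[0,1,0,0,0],[0,1,1,0,0],[0,0,0,1,0],[0,3,3,2,1]]),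
  ([[1,0],[3],[3],[3]],[[1,0,0,1,0]],[[3,0,0,3,1],[1,0,0,0,3],[2,2,3,0,3],[1,3,3,3,3],[0,1,0,0,3]],[[2,1,2,2,2],[2,0,2,2,3],[3,3,1,3,0],[1,1,3,3,3],[3,0,3,3,3]],[[1,0,0,0,0],[1,1,0,0,0],[2,1,1,0,0],[3,1,3,1,0],[0,0,2,2,1]],[[1,0,0,3,0],[0,1,1,0,0],[0,0,1,0,3],[0,0,0,1,1],[0,0,0,0,1]],[[1,0,0,0,0],[0,1,0,0,0],[0,3,1,0,0],[0,0,0,1,0],[0,2,3,0,1]]),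
  ([[1,0],[1],[3],[3],[3]],[[1,2],[2,1],[3,3]],[[1,0,0,2,2,2],[0,2,1,1,2,0],[3,0,0,1,3,0],[0,2,3,1,2,3],[0,0,2,3,2,0],[1,0,0,3,1,1]],[[1,1,2,1,1,1],[1,0,2,3,1,0],[1,1,0,1,2,1],[3,1,2,1,1,2],[0,3,3,3,3,2],[3,1,0,1,1,3]],[[1,0,0,0,0,0],[2,1,0,0,0,0],[1,3,1,0,0,0],[2,0,0,1,0,0],[0,1,1,1,1,0],[2,1,3,2,1,1]],[[1,3,0,0,1,1],[0,1,0,2,1,3],[0,0,1,2,3,1],[0,0,0,1,2,0],[0,0,0,0,1,3],[0,0,0,0,0,1]],[[1,0,0,0,0,0],[3,1,0,0,0,0],[0,3,1,0,0,0],[1,2,3,1,0,0],[2,1,3,1,1,0],[1,3,0,1,2,1]]),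
  ([[1,0],[3],[3],[3],[3],[3],[3]],[[2,1],[3,3],[1,1,2,1]],[[3,0,3,2,2,2,3,3],[2,3,3,0,1,0,2,3],[1,0,1,0,0,1,3,0],[3,0,0,1,2,0,1,2],[2,1,3,1,1,0,3,3],[3,2,2,1,0,2,2,0],[1,2,3,3,1,3,0,3],[1,1,3,1,3,0,1,0]],[[2,2,1,1,1,2,2,0],[2,1,0,0,0,3,3,2],[1,1,3,3,1,2,3,0],[2,1,2,3,1,3,0,3],[0,1,1,1,1,2,3,0],[0,2,2,0,0,1,2,0],[1,2,2,3,0,2,1,0],[1,0,3,0,0,2,3,2]],[[1,0,0,0,0,0,0,0],[0,1,0,0,0,0,0,0],[0,0,1,0,0,0,0,0],[2,0,2,1,0,0,0,0],[3,2,1,2,1,0,0,0],[1,2,2,2,0,1,0,0],[3,1,3,0,1,0,1,0],[0,0,1,0,0,1,0,1]],[[1,0,1,0,0,0,0,2],[0,1,0,1,2,3,3,0],[0,0,1,3,3,3,2,2],[0,0,0,1,0,0,3,0],[0,0,0,0,1,2,1,0],[0,0,0,0,0,1,2,1],[0,0,0,0,0,0,1,2],[0,0,0,0,0,0,0,1]],[[1,0,0,0,0,0,0,0],[3,1,0,0,0,0,0,0],[0,0,1,0,0,0,0,0],[1,2,0,1,0,0,0,0],[0,0,1,0,1,0,0,0],[0,0,3,0,3,1,0,0],[3,1,0,3,0,0,1,0],[1,2,1,1,1,2,2,1]]),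
  ([[1,0],[1,1,1]],[[1,0,0,1,0]],[[1,1,2,1,1],[1,3,2,0,1],[0,2,2,3,2],[3,3,0,2,1],[3,1,2,0,3]],[[3,1,2,1,0],[3,3,3,3,3],[3,2,3,3,1],[0,0,1,1,1],[0,1,1,2,0]],[[1,0,0,0,0],[0,1,0,0,0],[3,3,1,0,0],[3,1,0,1,0],[0,1,1,1,1]],[[1,0,0,3,2],[0,1,3,0,3],[0,0,1,1,1],[0,0,0,1,3],[0,0,0,0,1]],[[1,0,0,0,0],[1,1,0,0,0],[0,0,1,0,0],[2,2,2,1,0],[1,1,1,3,1]]),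
  ([[1,0],[1,1,1],[1]],[[1,2],[2,1],[3,3]],[[3,2,1,1,0,0],[0,0,0,2,0,1],[3,2,3,0,0,3],[3,1,0,1,2,0],[1,1,3,2,3,2],[3,0,0,3,2,0]],[[0,2,2,1,2,2],[2,3,2,0,1,2],[3,2,3,0,0,0],[1,2,1,3,3,2],[2,0,1,3,2,3],[2,2,2,1,1,3]],[[1,0,0,0,0,0],[3,1,0,0,0,0],[0,2,1,0,0,0],[3,0,0,1,0,0],[1,1,3,2,1,0],[2,3,1,0,1,1]],[[1,1,1,0,0,2],[0,1,0,2,1,3],[0,0,1,2,1,1],[0,0,0,1,3,3],[0,0,0,0,1,0],[0,0,0,0,0,1]],[[1,0,0,0,0,0],[0,1,0,0,0,0],[0,3,1,0,0,0],[0,3,1,1,0,0],[0,0,0,0,1,0],[0,0,0,0,0,1]])]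

theorem jay_ok : jay.all (fun e => chk4 false e.1 e.2.1 e.2.2) = true := by decide +kernel

/-- Key, blocks of `A`, witness. -/
def good : List (List (List ℕ) × List (List ℕ) × Wit) :=
  [([[1,2]],[[1,2]],[[1,2],[0,2]],[[1,1],[0,3]],[[1,0],[1,1]],[[1,1],[0,1]],[[1,0],[0,1]]),
  ([[1,3]],[[1,2]],[[2,3],[3,2]],[[2,3],[3,2]],[[1,0],[1,1]],[[1,1],[0,1]],[[1,0],[1,1]]),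
  ([[1,2],[1]],[[1,1,0]],[[2,0,1],[3,2,3],[0,3,0]],[[2,3,2],[0,0,2],[2,1,3]],[[1,0,0],[1,1,0],[3,3,1]],[[1,0,2],[0,1,3],[0,0,1]],[[1,0,0],[1,1,0],[3,3,1]]),
  ([[1,3],[1]],[[1,1,0]],[[3,2,0],[1,2,0],[1,0,2]],[[3,3,0],[2,1,0],[2,2,3]],[[1,0,0],[0,1,0],[2,2,1]],[[1,2,3],[0,1,2],[0,0,1]],[[1,0,0],[3,1,0],[0,0,1]]),
  ([[1,2],[2],[2],[2]],[[1,0,0,1,0]],[[1,3,3,2,1],[2,0,0,3,2],[1,3,2,3,1],[2,2,0,1,3],[2,0,2,3,1]],[[0,3,1,2,1],[0,3,3,2,3],[2,2,3,2,3],[3,2,2,2,3],[1,3,2,1,0]],[[1,0,0,0,0],[2,1,0,0,0],[1,2,1,0,0],[3,1,0,1,0],[1,2,1,3,1]],[[1,1,1,0,0],[0,1,3,2,0],[0,0,1,0,3],[0,0,0,1,3],[0,0,0,0,1]],[[1,0,0,0,0],[1,1,0,0,0],[0,1,1,0,0],[2,1,1,1,0],[2,3,2,3,1]]),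
  ([[1,2],[3],[3],[3]],[[1,0,0,1,0]],[[3,0,2,3,1],[2,3,2,1,1],[1,1,0,1,0],[0,3,2,3,1],[3,0,2,1,2]],[[2,3,1,1,0],[0,3,1,3,0],[1,1,2,2,1],[2,0,1,2,0],[3,0,3,1,2]],[[1,0,0,0,0],[0,1,0,0,0],[3,1,1,0,0],[2,1,2,1,0],[1,0,1,3,1]],[[1,1,0,0,0],[0,1,3,3,0],[0,0,1,2,2],[0,0,0,1,0],[0,0,0,0,1]],[[1,0,0,0,0],[0,1,0,0,0],[0,2,1,0,0],[0,0,0,1,0],[0,0,0,0,1]]),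
  ([[1,3],[2],[2],[2]],[[1,0,0,1,0]],[[3,0,0,3,3],[3,0,3,2,0],[0,3,1,1,0],[1,3,3,3,1],[3,1,2,0,1]],[[1,1,0,2,1],[2,3,0,0,1],[1,1,2,1,2],[0,3,3,1,1],[3,2,3,3,0]],[[1,0,0,0,0],[0,1,0,0,0],[0,1,1,0,0],[3,3,2,1,0],[2,3,1,3,1]],[[1,2,2,3,1],[0,1,1,0,1],[0,0,1,1,0],[0,0,0,1,2],[0,0,0,0,1]],[[1,0,0,0,0],[1,1,0,0,0],[0,0,1,0,0],[0,0,1,1,0],[0,0,2,2,1]]),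
  ([[1,3],[3],[3],[3]],[[1,0,0,1,0]],[[2,0,1,2,0],[2,2,0,2,2],[2,0,2,0,0],[1,0,2,1,3],[3,3,3,3,2]],[[1,2,3,2,1],[3,1,0,0,1],[1,2,0,2,1],[1,3,3,3,2],[3,3,0,1,2]],[[1,0,0,0,0],[1,1,0,0,0],[3,2,1,0,0],[3,0,0,1,0],[2,0,3,2,1]],[[1,0,3,3,3],[0,1,2,2,1],[0,0,1,0,3],[0,0,0,1,1],[0,0,0,0,1]],[[1,0,0,0,0],[2,1,0,0,0],[3,2,1,0,0],[3,2,1,1,0],[3,2,1,1,1]]),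
  ([[1,3,2],[2],[2],[2]],[[1,2],[2,1],[3,3]],[[2,0,1,1,2,0],[2,3,0,3,2,3],[2,1,3,2,0,1],[1,2,1,0,2,2],[2,1,1,1,3,3],[1,3,3,0,1,1]],[[2,0,3,1,3,3],[2,0,3,3,3,0],[1,1,3,3,3,3],[0,3,3,1,2,2],[2,1,3,0,0,0],[2,2,0,1,3,0]],[[1,0,0,0,0,0],[3,1,0,0,0,0],[1,0,1,0,0,0],[0,0,1,1,0,0],[0,2,2,0,1,0],[1,0,3,3,1,1]],[[1,2,0,1,0,0],[0,1,3,3,0,0],[0,0,1,1,3,0],[0,0,0,1,0,1],[0,0,0,0,1,2],[0,0,0,0,0,1]],[[1,0,0,0,0,0],[0,1,0,0,0,0],[1,0,1,0,0,0],[1,2,1,1,0,0],[3,1,3,3,1,0],[2,3,2,2,3,1]]),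
  ([[1,2,3],[3],[3],[3]],[[1,2],[2,1],[3,3]],[[1,1,2,0,1,3],[2,0,1,2,1,1],[0,2,0,2,1,3],[3,0,2,3,3,1],[1,0,2,2,2,1],[0,1,2,1,0,3]],[[2,0,0,2,2,2],[2,1,2,3,2,0],[3,2,1,0,0,1],[2,0,1,0,2,0],[1,0,1,2,0,3],[2,3,2,1,0,1]],[[1,0,0,0,0,0],[1,1,0,0,0,0],[2,2,1,0,0,0],[3,3,2,1,0,0],[1,2,3,1,1,0],[3,2,3,0,1,1]],[[1,2,1,3,3,1],[0,1,1,1,3,2],[0,0,1,3,0,0],[0,0,0,1,2,3],[0,0,0,0,1,2],[0,0,0,0,0,1]],[[1,0,0,0,0,0],[0,1,0,0,0,0],[0,0,1,0,0,0],[0,2,1,1,0,0],[0,0,0,0,1,0],[0,0,0,0,0,1]]),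
  ([[1,1,1],[1]],[[1,1,2,1]],[[0,3,2,2],[2,0,1,2],[2,0,3,0],[2,2,1,1]],[[2,0,0,3],[2,2,2,0],[1,0,2,2],[1,3,1,2]],[[1,0,0,0],[1,1,0,0],[1,0,1,0],[3,0,3,1]],[[1,3,2,1],[0,1,1,2],[0,0,1,0],[0,0,0,1]],[[1,0,0,0],[1,1,0,0],[1,1,1,0],[0,0,0,1]])]

theorem good_ok : good.all (fun e => chk4 false e.1 e.2.1 e.2.2) = true := by decide +kernel

/-- Key, blocks of `A`, witness. -/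
def tails : List (List (List ℕ) × List (List ℕ) × Wit) :=
  [([[2,0],[2],[2]],[[1,1,2,1]],[[2,3,0,1],[2,2,1,2],[0,2,1,1],[2,1,1,3]],[[3,3,0,3],[3,2,3,1],[3,3,2,0],[2,0,2,2]],[[1,0,0,0],[2,1,0,0],[1,0,1,0],[1,1,3,1]],[[1,1,0,1],[0,1,0,1],[0,0,1,2],[0,0,0,1]],[[1,0,0,0],[0,1,0,0],[0,0,1,0],[0,0,3,1]]),
  ([[2,1],[2],[2]],[[1,1,2,1]],[[1,0,3,0],[2,2,1,0],[1,2,1,1],[2,3,3,0]],[[3,3,0,2],[1,3,0,0],[3,1,0,3],[2,3,1,1]],[[1,0,0,0],[2,1,0,0],[1,1,1,0],[3,1,3,1]],[[1,3,2,1],[0,1,0,3],[0,0,1,2],[0,0,0,1]],[[1,0,0,0],[0,1,0,0],[0,2,1,0],[0,1,3,1]]),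
  ([[2,2],[2],[2]],[[1,1,2,1]],[[1,3,0,1],[3,1,3,1],[2,3,2,1],[0,1,3,3]],[[0,3,2,2],[2,2,2,3],[3,1,0,3],[0,2,3,0]],[[1,0,0,0],[2,1,0,0],[1,2,1,0],[0,0,1,1]],[[1,1,0,3],[0,1,3,2],[0,0,1,2],[0,0,0,1]],[[1,0,0,0],[2,1,0,0],[0,0,1,0],[0,0,1,1]]),
  ([[2,3],[2],[2]],[[1,1,2,1]],[[1,0,0,2],[2,3,1,3],[0,3,2,1],[2,1,0,3]],[[1,3,2,3],[2,0,0,1],[3,1,0,3],[0,2,1,2]],[[1,0,0,0],[2,1,0,0],[0,1,1,0],[3,0,0,1]],[[1,3,2,1],[0,1,1,2],[0,0,1,0],[0,0,0,1]],[[1,0,0,0],[3,1,0,0],[2,3,1,0],[0,0,0,1]]),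
  ([[3,0],[3],[3]],[[1,1,2,1]],[[1,0,2,2],[0,2,1,3],[3,2,0,1],[2,2,0,3]],[[2,3,2,1],[0,0,1,2],[3,0,3,3],[1,2,2,0]],[[1,0,0,0],[0,1,0,0],[2,2,1,0],[0,0,0,1]],[[1,3,3,3],[0,1,2,3],[0,0,1,1],[0,0,0,1]],[[1,0,0,0],[0,1,0,0],[0,3,1,0],[0,3,1,1]]),
  ([[3,1],[3],[3]],[[1,1,2,1]],[[3,1,1,3],[1,3,3,2],[3,3,0,0],[2,1,3,1]],[[1,2,0,0],[1,2,2,0],[2,0,1,1],[2,1,1,2]],[[1,0,0,0],[2,1,0,0],[2,3,1,0],[0,1,2,1]],[[1,0,1,0],[0,1,3,2],[0,0,1,3],[0,0,0,1]],[[1,0,0,0],[3,1,0,0],[3,1,1,0],[3,1,1,1]]),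
  ([[3,2],[3],[3]],[[1,1,2,1]],[[3,0,3,1],[0,3,2,2],[1,0,3,2],[2,2,1,1]],[[0,2,0,3],[2,1,3,1],[1,0,3,0],[2,1,2,2]],[[1,0,0,0],[0,1,0,0],[0,0,1,0],[1,3,1,1]],[[1,1,1,0],[0,1,2,1],[0,0,1,3],[0,0,0,1]],[[1,0,0,0],[0,1,0,0],[3,1,1,0],[2,3,3,1]]),
  ([[3,3],[3],[3]],[[1,1,2,1]],[[3,1,2,1],[1,3,3,3],[0,1,2,2],[0,1,3,2]],[[1,2,3,3],[1,3,1,3],[0,0,1,1],[3,2,1,3]],[[1,0,0,0],[0,1,0,0],[1,1,1,0],[1,0,2,1]],[[1,3,0,2],[0,1,3,1],[0,0,1,1],[0,0,0,1]],[[1,0,0,0],[2,1,0,0],[2,1,1,0],[2,1,1,1]]),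
  ([[1,0],[1,0]],[[1,1,2,1]],[[0,2,2,1],[1,3,3,0],[0,1,0,0],[2,0,1,3]],[[2,0,3,3],[0,0,1,0],[3,2,0,1],[0,3,2,2]],[[1,0,0,0],[1,1,0,0],[3,3,1,0],[1,3,1,1]],[[1,0,1,0],[0,1,2,2],[0,0,1,2],[0,0,0,1]],[[1,0,0,0],[0,1,0,0],[3,0,1,0],[1,0,2,1]]),
  ([[1,0],[1,1]],[[1,1,2,1]],[[2,2,2,2],[3,0,1,0],[0,1,1,2],[1,1,3,0]],[[3,3,3,2],[2,1,2,0],[2,3,2,1],[0,1,3,3]],[[1,0,0,0],[3,1,0,0],[3,1,1,0],[2,0,3,1]],[[1,3,3,1],[0,1,3,2],[0,0,1,3],[0,0,0,1]],[[1,0,0,0],[2,1,0,0],[3,2,1,0],[2,1,3,1]]),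
  ([[1,0],[1,2]],[[1,1,2,1]],[[3,0,0,2],[3,1,0,1],[2,1,0,1],[2,1,3,2]],[[0,1,1,0],[3,0,1,0],[3,2,0,2],[3,2,2,0]],[[1,0,0,0],[1,1,0,0],[1,2,1,0],[0,3,2,1]],[[1,0,2,0],[0,1,2,3],[0,0,1,3],[0,0,0,1]],[[1,0,0,0],[1,1,0,0],[2,2,1,0],[3,3,2,1]]),
  ([[1,0],[1,3]],[[1,1,2,1]],[[3,2,1,1],[2,1,2,3],[0,0,0,3],[1,2,3,0]],[[0,1,1,3],[1,1,3,1],[3,1,0,0],[0,0,2,0]],[[1,0,0,0],[1,1,0,0],[2,2,1,0],[0,3,3,1]],[[1,2,3,1],[0,1,2,0],[0,0,1,0],[0,0,0,1]],[[1,0,0,0],[0,1,0,0],[0,0,1,0],[0,0,0,1]])]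

theorem tails_ok : tails.all (fun e => chk4 false e.1 e.2.1 e.2.2) = true := by decide +kernel

/-- Key, blocks of `A`, witness. -/
def jays : List (List (List ℕ) × List (List ℕ) × Wit) :=
  [([[1,0],[1,0],[1]],[[1,0,0,1,0]],[[1,3,3,0,1],[2,1,2,1,0],[1,0,1,2,2],[3,3,0,2,1],[1,2,3,2,1]],[[1,0,2,0,2],[0,1,1,3,1],[3,2,3,3,1],[3,3,3,2,0],[2,2,3,0,2]],[[1,0,0,0,0],[2,1,0,0,0],[3,3,1,0,0],[2,0,1,1,0],[1,1,0,0,1]],[[1,2,2,1,1],[0,1,1,2,3],[0,0,1,1,1],[0,0,0,1,1],[0,0,0,0,1]],[[1,0,0,0,0],[2,1,0,0,0],[2,2,1,0,0],[2,1,1,1,0],[2,0,3,2,1]]),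
  ([[1,0],[1,0],[1,0],[1]],[[1,1,0],[1,1,2,1]],[[3,0,0,2,2,2,0],[0,0,2,1,3,1,1],[3,1,3,0,0,1,3],[2,0,3,2,1,2,2],[3,1,0,1,2,2,0],[0,0,2,1,3,0,3],[2,2,3,3,3,3,2]],[[0,1,0,3,0,0,0],[2,1,1,2,3,3,2],[1,0,1,3,0,1,3],[1,2,2,3,3,1,3],[0,0,3,1,2,2,3],[2,0,1,3,1,3,0],[1,3,3,2,3,1,0]],[[1,0,0,0,0,0,0],[0,1,0,0,0,0,0],[3,3,1,0,0,0,0],[1,2,3,1,0,0,0],[3,0,1,1,1,0,0],[2,3,2,2,1,1,0],[1,3,3,0,2,0,1]],[[1,0,0,2,1,0,3],[0,1,3,0,3,3,1],[0,0,1,1,2,0,2],[0,0,0,1,3,1,3],[0,0,0,0,1,0,1],[0,0,0,0,0,1,1],[0,0,0,0,0,0,1]],[[1,0,0,0,0,0,0],[0,1,0,0,0,0,0],[0,1,1,0,0,0,0],[1,0,0,1,0,0,0],[0,0,0,0,1,0,0],[0,0,0,0,1,1,0],[0,0,0,0,1,1,1]]),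
  ([[1,0],[1,0],[2],[2],[2]],[[1,1,0],[1,1,2,1]],[[2,1,0,3,3,2,0],[1,1,0,1,0,2,2],[0,2,3,1,1,0,1],[1,1,0,3,1,2,0],[0,1,2,2,2,2,2],[2,2,1,0,3,1,3],[3,2,1,3,2,3,2]],[[0,3,1,1,3,2,0],[2,2,0,2,2,1,2],[3,3,3,3,2,1,1],[0,2,1,3,1,2,3],[3,1,2,1,1,3,0],[3,3,0,3,2,3,0],[2,2,0,3,2,0,3]],[[1,0,0,0,0,0,0],[2,1,0,0,0,0,0],[0,0,1,0,0,0,0],[3,3,0,1,0,0,0],[0,1,1,2,1,0,0],[0,0,1,3,3,1,0],[2,2,0,2,0,2,1]],[[1,3,1,1,2,3,2],[0,1,3,2,0,2,3],[0,0,1,0,3,1,0],[0,0,0,1,0,3,1],[0,0,0,0,1,3,2],[0,0,0,0,0,1,2],[0,0,0,0,0,0,1]],[[1,0,0,0,0,0,0],[2,1,0,0,0,0,0],[0,1,1,0,0,0,0],[3,3,1,1,0,0,0],[3,2,1,3,1,0,0],[0,2,2,0,3,1,0],[3,0,2,1,0,0,1]]),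
  ([[1,0],[1,0],[3],[3],[3]],[[1,1,0],[1,1,2,1]],[[3,3,3,3,0,0,2],[3,3,0,1,2,2,3],[1,2,1,1,3,3,1],[2,0,1,0,1,2,2],[3,2,2,0,1,1,3],[2,2,3,1,1,2,2],[1,0,3,2,1,3,1]],[[1,3,3,2,1,1,1],[0,1,3,2,0,2,0],[0,3,1,0,1,1,2],[0,3,3,2,2,0,3],[0,3,0,1,2,3,0],[0,0,3,1,0,3,0],[1,3,3,3,3,3,0]],[[1,0,0,0,0,0,0],[0,1,0,0,0,0,0],[2,3,1,0,0,0,0],[1,2,0,1,0,0,0],[2,0,2,0,1,0,0],[3,0,2,1,1,1,0],[1,1,3,3,3,2,1]],[[1,2,0,1,2,3,3],[0,1,0,0,0,1,1],[0,0,1,1,2,0,0],[0,0,0,1,1,2,0],[0,0,0,0,1,2,3],[0,0,0,0,0,1,2],[0,0,0,0,0,0,1]],[[1,0,0,0,0,0,0],[1,1,0,0,0,0,0],[0,3,1,0,0,0,0],[1,3,3,1,0,0,0],[0,0,1,1,1,0,0],[3,0,2,0,0,1,0],[2,3,0,1,2,1,1]])]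

theorem jays_ok : jays.all (fun e => chk4 false e.1 e.2.1 e.2.2) = true := by decide +kernel

end H31.Com.Uni.D4
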