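import Cfsg.Agent.H31.Unitary.Good
import Cfsg.Agent.H31.Unitary.DataA
import Cfsg.Agent.H31.Unitary.DataB
import Cfsg.Agent.H31.Unitary.DataC

/-!
Groups made only of linear and large blocks.
-/

set_option autoImplicit false
set_option maxRecDepth 100000
set_option linter.unusedSectionVars false
set_option linter.style.longLine false

namespace H31.Com.Uni

open Matrix Polynomial
open H89.CN (Sim Dec rComp)
open H31.Com

theorem perm_of_mset {α : Type*} {l l' : List α} (h : (↑l : Multiset α) = ↑l') : l.Perm l' := Multiset.coe_eq_coe.1 h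

/-- A table has the key with blocks in `T`. -/
def has (t : List (List (List ℕ) × List (List ℕ) × Wit)) (ms T : List (List ℕ)) : Bool :=
  t.any fun e => e.1 == ms && e.2.1.all fun x => T.contains x

theorem solo4_all : ((allV 4 4).filter fun m => m.getD 0 0 == 1).all (fun m => has D4.solo4 [m] pool) = true := by
  decide +kernel

theorem solo3_all : ((allV 4 3).filter fun m => m.getD 0 0 == 1).all (fun m => has D4.solo3 [m] [[1,1,0]]) = true := by
  decide +kernel

theorem tail_all : ([2, 3].all fun u => ((allV 4 2).filter fun m => m.getD 0 0 == u).all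
    fun m => has D4.tails [m, [u], [u]] [[1,1,2,1]]) = true := by
  decide +kernel

theorem jtail_all : ((allV 4 2).filter fun m => m.getD 0 0 == 1).all
    (fun m => has D4.tails [[1,0], m] [[1,1,2,1]]) = true := by
  decide +kernel

variable {K : Type*} [Field K] [Fintype K] {a : K} [Omega a] {σ : K →+* K} {φ : ℕ → K[X]}

theorem code_cd (hK : ∀ x : K, x ^ 4 = x) {f : K[X]} (hf : f.Monic) {d n : ℕ} (hd : f.natDegree = d) (hd0 : 0 < d)
    (hn : n < 4) (hc : cd f = emb a n) : ∃ m ∈ (allV 4 d).filter (fun m => m.getD 0 0 == n), f = bpoly a m := by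
  obtain ⟨m, hm, hl, rfl⟩ := exists_code4 (a := a) hK hf hd
  refine ⟨m, List.mem_filter.2 ⟨hm, ?_⟩, rfl⟩
  rw [cd_bpoly (by omega)] at hc
  have := emb_inj hc
  rw [beq_iff_eq]
  have h4 : m.getD 0 0 < 4 := by
    have hall : (allV 4 d).all (fun m => decide (m.getD 0 0 < 4)) = true := by
      obtain ⟨k, rfl⟩ : ∃ k, d = k + 1 := ⟨d - 1, by omega⟩
      refine List.all_eq_true.2 fun l hl => decide_eq_true ?_
      simp only [allV, List.mem_flatMap, List.mem_range, List.mem_map] at hl
      obtain ⟨x, hx, _, -, rfl⟩ := hl
      simpa using hx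
    simpa using List.all_eq_true.1 hall m hm
  omega

/-- A linear or large block of a given determinant. -/
def Item (a : K) (n : ℕ) (f : K[X]) : Prop :=
  f.Monic ∧ cd f = emb a n ∧ f.coeff 0 ≠ 0 ∧ (f.natDegree = 1 ∨ 4 ≤ f.natDegree)

theorem item_linear {n : ℕ} {f : K[X]} (hf : Item a n f) (h1 : f.natDegree = 1) : f = bpoly a [n] := by
  have h0 : f.coeff 0 = emb a n := by
    rw [← hf.2.1, cd, h1, omega_neg a (1 : K), one_pow, one_mul]
  ext k
  rw [bpoly, coeff_ofE]
  rcases k with _ | _ | k
  · simpa using h0
  · have := hf.1.coeff_natDegree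
    rw [h1] at this
    simpa using this
  · rw [coeff_eq_zero_of_natDegree_lt (by omega)]
    simp

variable (hK : ∀ x : K, x ^ 4 = x) (hφ : Chosen4 σ φ)
include hK hφ

/-- Keys with some items reduced. -/
theorem good_aux {T : List (List ℕ)} (hT : ∀ x ∈ T, x ∈ pool) :
    ∀ (fs : List K[X]) (ns : List ℕ), List.Forall₂ (fun f n => Item a n f) fs ns →
    ∀ (pre bs : List (K[X] × ℕ)) (bn : List ℕ) (ms : List (List ℕ)),
      (∀ p ∈ pre, p.1.Monic ∧ 0 < p.2 ∧ p.2 + 2 ≤ p.1.natDegree ∧ (p.1.natDegree = p.2 + 2 → [1,2] ∉ T) ∧ p.1.coeff 0 ≠ 0) →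
      List.Forall₂ (fun p n => Item a n p.1 ∧ p.2 = 1 ∧ 4 ≤ p.1.natDegree) bs bn →
      (∀ gs : List K[X], List.Forall₂ (fun p g => g.Monic ∧ g.natDegree = p.2 ∧ cd g = cd p.1) pre gs →
        FG (cset a T) 1 (gs ++ bpolys a ((bn ++ ns).map ([·]) ++ ms))) →
      Good a φ (pre.map Prod.fst ++ bs.map Prod.fst ++ fs ++ bpolys a ms) := by
  intro fs ns h
  induction h with
  | nil =>
    intro pre bs bn ms hpre hbs hkey
    have hb : ∀ p ∈ bs, p.1.Monic ∧ 0 < p.2 ∧ p.2 + 2 ≤ p.1.natDegree ∧ (p.1.natDegree = p.2 + 2 → [1,2] ∉ T) ∧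
        p.1.coeff 0 ≠ 0 := by
      clear hkey
      induction hbs with
      | nil => simp
      | cons hp _ ih =>
        intro p hp'
        rcases List.mem_cons.1 hp' with rfl | hp'
        · obtain ⟨⟨hm, -, h0, -⟩, ht, h4⟩ := hp
          exact ⟨hm, by omega, by omega, fun e => by omega, h0⟩
        · exact ih p hp'
    have := good_red (a := a) hK hφ hT (pre ++ bs) (rest := bpolys a ms) (fun p hp => by
      rcases List.mem_append.1 hp with hp | hp
      exacts [hpre p hp, hb p hp]) fun gs hgs => ?_
    · simpa using this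
    obtain ⟨g1, g2, hg1, hg2, rfl⟩ : ∃ g1 g2, List.Forall₂ (fun p g => g.Monic ∧ g.natDegree = p.2 ∧ cd g = cd p.1) pre g1 ∧
        List.Forall₂ (fun p g => g.Monic ∧ g.natDegree = p.2 ∧ cd g = cd p.1) bs g2 ∧ gs = g1 ++ g2 := by
      clear hkey hpre hb hbs
      induction pre generalizing gs with
      | nil => exact ⟨[], gs, List.Forall₂.nil, hgs, rfl⟩
      | cons p pre ih =>
        cases hgs with
        | cons hp hr =>
          obtain ⟨g1, g2, h1, h2, rfl⟩ := ih _ hr
          exact ⟨_ :: g1, g2, List.Forall₂.cons hp h1, h2, rfl⟩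
    have hg : g2 = bpolys a (bn.map ([·])) := by
      clear hkey hb hg1 hgs
      induction hbs generalizing g2 with
      | nil => cases hg2; rfl
      | @cons p n bs bn hp _ ih =>
        cases hg2 with
        | cons hq hr =>
          obtain ⟨hm, hd, hc⟩ := hq
          obtain ⟨⟨-, hcd, h0, -⟩, ht, -⟩ := hp
          rw [ih _ hr]
          simp only [bpolys, List.map_cons]
          congr 1
          refine item_linear ⟨hm, hc.trans hcd, fun e => h0 ?_, Or.inl (hd.trans ht)⟩ (hd.trans ht)
          have := hc
          rw [cd, cd, e, mul_zero] at this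
          simpa using this.symm
    have := hkey g1 hg1
    simpa [hg, bpolys] using this
  | @cons f n fs ns hf _ ih =>
    intro pre bs bn ms hpre hbs hkey
    rcases hf.2.2.2 with h1 | h4
    · have := ih pre bs bn ([n] :: ms) hpre hbs fun gs hgs => (hkey gs hgs).perm ?_
      · refine this.perm (perm_of_mset ?_)
        simp only [bpolys, List.map_cons, ← item_linear hf h1, ← Multiset.coe_add, ← Multiset.cons_coe,
          ← Multiset.singleton_add]
        abel
      · refine perm_of_mset ?_
        simp only [bpolys, List.map_cons, List.map_append, ← Multiset.coe_add, ← Multiset.cons_coe,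
          ← Multiset.singleton_add]
        abel
    · have := ih pre (bs ++ [(f, 1)]) (bn ++ [n]) ms hpre
        (List.rel_append hbs (List.Forall₂.cons ⟨hf, rfl, h4⟩ List.Forall₂.nil)) (by simpa using hkey)
      simpa using this

/-- Items with a key of a table. -/
theorem good_items {t : List (List (List ℕ) × List (List ℕ) × Wit)} (ht : t.all (fun e => chk4 false e.1 e.2.1 e.2.2) = true)
    {fs : List K[X]} {ns : List ℕ} (h : List.Forall₂ (fun f n => Item a n f) fs ns) {ms : List (List ℕ)}
    (hm : has t (ns.map ([·]) ++ ms) pool = true) : Good a φ (fs ++ bpolys a ms) := by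
  have := good_aux hK hφ (fun _ hx => hx) fs ns h [] [] [] ms (by simp) List.Forall₂.nil fun gs hgs => by
    cases hgs
    simpa using fg_key ht hm
  simpa using this

/-- A large block with a short tail beside linear or large ones. -/
theorem good_tail {t : List (List (List ℕ) × List (List ℕ) × Wit)} (ht : t.all (fun e => chk4 false e.1 e.2.1 e.2.2) = true)
    {T : List (List ℕ)} (hT : ∀ x ∈ T, x ∈ pool) {f : K[X]} {n s : ℕ} (hn : n < 4) (hf : Item a n f) (hs : 0 < s)
    (hd : s + 2 ≤ f.natDegree) (hP : f.natDegree = s + 2 → [1,2] ∉ T) {fs : List K[X]} {ns : List ℕ}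
    (h : List.Forall₂ (fun f n => Item a n f) fs ns) {ms : List (List ℕ)}
    (hm : ∀ m ∈ (allV 4 s).filter (fun m => m.getD 0 0 == n), has t ([m] ++ ns.map ([·]) ++ ms) T = true) :
    Good a φ (f :: (fs ++ bpolys a ms)) := by
  have := good_aux hK hφ hT fs ns h [(f, s)] [] [] ms (by simpa using ⟨hf.1, hs, hd, hP, hf.2.2.1⟩)
    List.Forall₂.nil fun gs hgs => by
    cases hgs with
    | cons hg hr =>
      cases hr
      obtain ⟨m, hm', rfl⟩ := code_cd (a := a) hK hg.1 hg.2.1 hs hn (hg.2.2.trans hf.2.1)
      simpa [bpolys] using fg_key ht (hm m hm')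
  simpa using this

/-- A large block of determinant one alone. -/
theorem good_big {f : K[X]} (hf : Item a 1 f) (h4 : 4 ≤ f.natDegree) : Good a φ [f] := by
  rcases (by omega : f.natDegree = 4 ∨ 5 ≤ f.natDegree) with hd | hd
  · obtain ⟨m, hm, rfl⟩ := code_cd (a := a) hK hf.1 hd (by norm_num) (by norm_num) hf.2.1
    exact good_key (ms := [m]) D4.solo4_ok (List.all_eq_true.1 solo4_all m hm)
  · have := good_tail hK hφ D4.solo3_ok (T := [[1,1,0]]) (by decide) (s := 3) (by norm_num) hf (by norm_num) (by omega)
      (fun _ => by decide) (List.Forall₂.nil) (ms := []) fun m hm => by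
        simpa using List.all_eq_true.1 solo3_all m hm
    simpa [bpolys] using this

omit hK hφ in
theorem forall₂_replicate {n : ℕ} : ∀ {fs : List K[X]}, (∀ f ∈ fs, Item a n f) →
    List.Forall₂ (fun f n => Item a n f) fs (List.replicate fs.length n)
  | [], _ => List.Forall₂.nil
  | f :: _, h => List.Forall₂.cons (h f (List.mem_cons_self ..)) (forall₂_replicate fun g hg => h g (List.mem_cons_of_mem _ hg))

/-- Blocks of determinant one. -/
theorem good_ones : ∀ {os : List K[X]}, (∀ f ∈ os, Item a 1 f) → os.length ≠ 1 → Good a φ os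
  | [], _, _ => Good.nil
  | [_], _, h => absurd rfl h
  | [f, g], ho, _ => by
    simpa [bpolys] using good_items hK hφ D4.ids_ok (ms := []) (forall₂_replicate ho) (by simp only [List.length_cons, List.length_nil]; decide)
  | [f, g, x], ho, _ => by
    simpa [bpolys] using good_items hK hφ D4.ids_ok (ms := []) (forall₂_replicate ho) (by simp only [List.length_cons, List.length_nil]; decide)
  | f :: g :: x :: y :: r, ho, _ => by
    have h1 : Good a φ [f, g] := by
      have hfg : ∀ z ∈ [f, g], Item a 1 z := fun z hz => ho z (List.mem_append_left (x :: y :: r) hz)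
      simpa [bpolys] using good_items hK hφ D4.ids_ok (ms := []) (forall₂_replicate hfg) (by simp only [List.length_cons, List.length_nil]; decide)
    exact h1.append (good_ones (os := x :: y :: r) (fun z hz => ho z (List.mem_append_right [f, g] hz)) (by simp))

/-- Sextets of one determinant. -/
theorem good_sixes {u : ℕ} (hu : u = 2 ∨ u = 3) : ∀ {us : List K[X]}, (∀ f ∈ us, Item a u f) → us.length % 6 = 0 → Good a φ us
  | [], _, _ => Good.nil
  | [_], _, h => by simp at h
  | [_, _], _, h => by simp at h
  | [_, _, _], _, h => by simp at h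
  | [_, _, _, _], _, h => by simp at h
  | [_, _, _, _, _], _, h => by simp at h
  | x₁ :: x₂ :: x₃ :: x₄ :: x₅ :: x₆ :: r, hus, h => by
    have h1 : Good a φ [x₁, x₂, x₃, x₄, x₅, x₆] := by
      have h6 : ∀ z ∈ [x₁, x₂, x₃, x₄, x₅, x₆], Item a u z := fun z hz => hus z (List.mem_append_left r hz)
      simpa [bpolys] using good_items hK hφ D4.ids_ok (ms := []) (forall₂_replicate h6)
        (by simp only [List.length_cons, List.length_nil]; rcases hu with rfl | rfl <;> decide)
    exact h1.append (good_sixes hu (us := r) (fun z hz => hus z (List.mem_append_right [x₁, x₂, x₃, x₄, x₅, x₆] hz)) (by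
      simp only [List.length_cons] at h; omega))

/-- Pairs of inverse determinants. -/
theorem good_pairs {u v : ℕ} (huv : (u = 2 ∧ v = 3) ∨ (u = 3 ∧ v = 2)) :
    ∀ {us vs : List K[X]}, (∀ f ∈ us, Item a u f) → (∀ f ∈ vs, Item a v f) → us.length = vs.length → Good a φ (us ++ vs)
  | [], [], _, _, _ => Good.nil
  | [], _ :: _, _, _, h => by simp at h
  | _ :: _, [], _, _, h => by simp at h
  | x :: us, y :: vs, hu, hv, h => by
    have h1 : Good a φ [x, y] := by
      simpa [bpolys] using good_items hK hφ D4.ids_ok (ms := []) (fs := [x, y]) (ns := [u, v])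
        (List.Forall₂.cons (hu x (by simp)) (List.Forall₂.cons (hv y (by simp)) List.Forall₂.nil))
        (by rcases huv with ⟨rfl, rfl⟩ | ⟨rfl, rfl⟩ <;> decide)
    refine (h1.append (good_pairs huv (us := us) (vs := vs) (fun z hz => hu z (List.mem_cons_of_mem _ hz))
      (fun z hz => hv z (List.mem_cons_of_mem _ hz)) (by simpa using h))).perm (perm_of_mset ?_)
    simp only [← Multiset.coe_add, ← Multiset.cons_coe, ← Multiset.singleton_add, Multiset.coe_nil, add_zero]
    abel

/-- **Linear and large blocks beside a good group.** -/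
theorem base {u v : ℕ} (huv : (u = 2 ∧ v = 3) ∨ (u = 3 ∧ v = 2)) {G os us vs : List K[X]} (hG : Good a φ G)
    (ho : ∀ f ∈ os, Item a 1 f) (hu : ∀ f ∈ us, Item a u f) (hv : ∀ f ∈ vs, Item a v f)
    (hle : vs.length ≤ us.length) (hmod : us.length % 3 = vs.length % 3)
    (h1 : os = [bpoly a [1]] → us = [] → vs = [] → Good a φ (G ++ [bpoly a [1]]))
    (h3 : os = [] → vs = [] → us = List.replicate us.length (bpoly a [u]) → us ≠ [] →
      Good a φ (G ++ bpolys a [[u], [u], [u]])) :
    Good a φ (G ++ os ++ us ++ vs) := by
  have hu2 : u = 2 ∨ u = 3 := by omega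
  obtain ⟨us₁, us₂, rfl, hlen⟩ : ∃ us₁ us₂, us = us₁ ++ us₂ ∧ us₁.length = vs.length :=
    ⟨us.take vs.length, us.drop vs.length, (List.take_append_drop _ _).symm, by rw [List.length_take]; omega⟩
  simp only [List.forall_mem_append] at hu
  simp only [List.length_append] at hmod
  have hC := good_pairs hK hφ huv hu.1 hv hlen
  by_cases hev : us₂.length % 6 = 0
  · have hS := good_sixes hK hφ hu2 hu.2 hev
    by_cases ho1 : os.length = 1
    swap
    · refine ((hG.append (good_ones hK hφ ho ho1)).append (hC.append hS)).perm (perm_of_mset ?_)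
      simp only [← Multiset.coe_add]
      abel
    obtain ⟨f, rfl⟩ := List.length_eq_one_iff.1 ho1
    have hf := ho f (by simp)
    rcases hf.2.2.2 with hd | hd
    swap
    · refine ((hG.append (good_big hK hφ hf hd)).append (hC.append hS)).perm (perm_of_mset ?_)
      simp only [← Multiset.coe_add]
      abel
    rcases us₁ with _ | ⟨x, us₁⟩
    · obtain rfl : vs = [] := List.length_eq_zero_iff.1 hlen.symm
      match us₂, hu, hev with
      | [], _, _ =>
        rw [item_linear hf hd] at h1 ⊢
        simpa using h1 rfl (by simp) rfl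
      | [_], _, h => simp at h
      | [_, _], _, h => simp at h
      | [_, _, _], _, h => simp at h
      | [_, _, _, _], _, h => simp at h
      | [_, _, _, _, _], _, h => simp at h
      | x₁ :: x₂ :: x₃ :: x₄ :: x₅ :: x₆ :: r, hu, h =>
        have g1 : Good a φ [f, x₁, x₂, x₃, x₄, x₅, x₆] := by
          simpa [bpolys] using good_items hK hφ D4.ids_ok (ms := []) (fs := [f, x₁, x₂, x₃, x₄, x₅, x₆]) (ns := [1, u, u, u, u, u, u])
            (List.Forall₂.cons hf (forall₂_replicate (fs := [x₁, x₂, x₃, x₄, x₅, x₆]) fun z hz =>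
              hu.2 z (List.mem_append_left r hz)))
            (by rcases hu2 with rfl | rfl <;> decide)
        have g2 := good_sixes hK hφ hu2 (us := r) (fun z hz => hu.2 z (List.mem_append_right [x₁, x₂, x₃, x₄, x₅, x₆] hz))
          (by simp only [List.length_cons] at h; omega)
        refine ((hG.append g1).append g2).perm (perm_of_mset ?_)
        simp only [← Multiset.coe_add, ← Multiset.cons_coe, ← Multiset.singleton_add, Multiset.coe_nil, add_zero,
          List.nil_append, List.append_nil]
        abel
    · rcases vs with _ | ⟨y, vs⟩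
      · simp at hlen
      have g1 : Good a φ [f, x, y] := by
        simpa [bpolys] using good_items hK hφ D4.ids_ok (ms := []) (fs := [f, x, y]) (ns := [1, u, v])
          (List.Forall₂.cons hf (List.Forall₂.cons (hu.1 x (by simp)) (List.Forall₂.cons (hv y (by simp)) List.Forall₂.nil)))
          (by rcases huv with ⟨rfl, rfl⟩ | ⟨rfl, rfl⟩ <;> decide)
      have g2 := good_pairs hK hφ huv (us := us₁) (vs := vs) (fun z hz => hu.1 z (List.mem_cons_of_mem _ hz))
        (fun z hz => hv z (List.mem_cons_of_mem _ hz)) (by simpa using hlen)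
      refine ((hG.append g1).append (g2.append hS)).perm (perm_of_mset ?_)
      simp only [← Multiset.coe_add, ← Multiset.cons_coe, ← Multiset.singleton_add, Multiset.coe_nil, add_zero]
      abel
  obtain ⟨x, y, z, w, rfl⟩ : ∃ x y z w, us₂ = x :: y :: z :: w := by
    match us₂, hev, hmod with
    | [], h, _ => simp at h
    | [_], _, h => simp at h; omega
    | [_, _], _, h => simp at h; omega
    | x :: y :: z :: w, _, _ => exact ⟨x, y, z, w, rfl⟩
  simp only [List.length_cons] at hev hmod
  have hx := hu.2 x (by simp)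
  have hy := hu.2 y (by simp)
  have hz := hu.2 z (by simp)
  have hW := good_sixes hK hφ hu2 (us := w) (fun q hq => hu.2 q (by simp [hq])) (by omega)
  match os, ho, h1, h3 with
  | [], _, _, h3 =>
    rcases us₁ with _ | ⟨p, us₁⟩
    · obtain rfl : vs = [] := List.length_eq_zero_iff.1 hlen.symm
      simp only [List.nil_append, List.append_nil] at h3 ⊢
      by_cases hb : ∃ b ∈ x :: y :: z :: w, 4 ≤ b.natDegree
      · obtain ⟨b, hb, hb4⟩ := hb
        obtain ⟨l₁, l₂, hl⟩ := List.append_of_mem hb
        have hb' := hu.2 b hb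
        have hlen' : l₁.length + l₂.length = w.length + 2 := by
          have := congrArg List.length hl
          simp at this; omega
        obtain ⟨p₁, p₂, r, hr⟩ : ∃ p₁ p₂ r, l₁ ++ l₂ = p₁ :: p₂ :: r := by
          match h : l₁ ++ l₂ with
          | [] => simp [← List.length_append, h] at hlen'
          | [_] => simp [← List.length_append, h] at hlen'
          | p₁ :: p₂ :: r => exact ⟨p₁, p₂, r, rfl⟩
        have hin : ∀ q ∈ p₁ :: p₂ :: r, Item a u q := fun q hq => hu.2 q (by
          rw [hl]
          rw [← hr] at hq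
          exact (List.mem_append.1 hq).elim (List.mem_append_left _) fun h => List.mem_append_right _ (List.mem_cons_of_mem _ h))
        have g1 : Good a φ [b, p₁, p₂] := by
          simpa [bpolys] using good_tail hK hφ D4.tails_ok (T := [[1,1,2,1]]) (by decide) (s := 2) (by omega) hb'
            (by norm_num) (by omega) (fun _ => by decide) (ms := []) (fs := [p₁, p₂]) (ns := [u, u])
            (List.Forall₂.cons (hin _ (by simp)) (List.Forall₂.cons (hin _ (by simp)) List.Forall₂.nil))
            (fun m hm => by
              simpa using List.all_eq_true.1 (List.all_eq_true.1 tail_all u (by simpa using hu2)) m hm)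
        have g2 := good_sixes hK hφ hu2 (us := r) (fun q hq => hin q (by simp [hq])) (by
          have := congrArg List.length hr
          simp at this; omega)
        refine (hG.append (g1.append g2)).perm (perm_of_mset ?_)
        have hr' : (↑l₁ : Multiset K[X]) + ↑l₂ = ↑(p₁ :: p₂ :: r) := by rw [Multiset.coe_add, hr]
        rw [hl]
        simp only [← Multiset.coe_add, ← Multiset.cons_coe, ← Multiset.singleton_add, Multiset.coe_nil, add_zero] at hr' ⊢
        rw [add_left_comm (↑l₁ : Multiset K[X]) {b} ↑l₂, hr']
        abel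
      · push Not at hb
        have hall : ∀ b ∈ x :: y :: z :: w, b = bpoly a [u] := fun b hb' =>
          item_linear (hu.2 b hb') ((hu.2 b hb').2.2.2.resolve_right (by have := hb b hb'; omega))
        have h3' := h3 trivial trivial (List.eq_replicate_iff.2 ⟨rfl, hall⟩) (by simp)
        rw [hall x (by simp), hall y (by simp), hall z (by simp)]
        refine (h3'.append hW).perm (perm_of_mset ?_)
        simp only [bpolys, List.map_cons, List.map_nil, ← Multiset.coe_add, ← Multiset.cons_coe,
          ← Multiset.singleton_add, Multiset.coe_nil, add_zero]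
        abel
    · rcases vs with _ | ⟨q, vs⟩
      · simp at hlen
      have g1 : Good a φ [x, y, z, p, q] := by
        simpa [bpolys] using good_items hK hφ D4.ids_ok (ms := []) (fs := [x, y, z, p, q]) (ns := [u, u, u, u, v])
          (List.Forall₂.cons hx (List.Forall₂.cons hy (List.Forall₂.cons hz (List.Forall₂.cons (hu.1 p (by simp))
            (List.Forall₂.cons (hv q (by simp)) List.Forall₂.nil)))))
          (by rcases huv with ⟨rfl, rfl⟩ | ⟨rfl, rfl⟩ <;> decide)
      have g2 := good_pairs hK hφ huv (us := us₁) (vs := vs) (fun z hz => hu.1 z (List.mem_cons_of_mem _ hz))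
        (fun z hz => hv z (List.mem_cons_of_mem _ hz)) (by simpa using hlen)
      refine ((hG.append g1).append (g2.append hW)).perm (perm_of_mset ?_)
      simp only [← Multiset.coe_add, ← Multiset.cons_coe, ← Multiset.singleton_add, Multiset.coe_nil, add_zero]
      abel
  | [f, g], ho, _, _ =>
    have g1 : Good a φ [f, g, x, y, z] := by
      simpa [bpolys] using good_items hK hφ D4.ids_ok (ms := []) (fs := [f, g, x, y, z]) (ns := [1, 1, u, u, u])
        (List.Forall₂.cons (ho f (by simp)) (List.Forall₂.cons (ho g (by simp))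
          (List.Forall₂.cons hx (List.Forall₂.cons hy (List.Forall₂.cons hz List.Forall₂.nil)))))
        (by rcases hu2 with rfl | rfl <;> decide)
    refine ((hG.append g1).append (hC.append hW)).perm (perm_of_mset ?_)
    simp only [← Multiset.coe_add, ← Multiset.cons_coe, ← Multiset.singleton_add, Multiset.coe_nil, add_zero]
    abel
  | [f], ho, _, _ =>
    have g1 : Good a φ [f, x, y, z] := by
      simpa [bpolys] using good_items hK hφ D4.ids_ok (ms := []) (fs := [f, x, y, z]) (ns := [1, u, u, u])
        (List.Forall₂.cons (ho f (by simp))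
          (List.Forall₂.cons hx (List.Forall₂.cons hy (List.Forall₂.cons hz List.Forall₂.nil))))
        (by rcases hu2 with rfl | rfl <;> decide)
    refine ((hG.append g1).append (hC.append hW)).perm (perm_of_mset ?_)
    simp only [← Multiset.coe_add, ← Multiset.cons_coe, ← Multiset.singleton_add, Multiset.coe_nil, add_zero]
    abel
  | f :: g :: e :: os, ho, _, _ =>
    have g1 : Good a φ [f, x, y, z] := by
      simpa [bpolys] using good_items hK hφ D4.ids_ok (ms := []) (fs := [f, x, y, z]) (ns := [1, u, u, u])
        (List.Forall₂.cons (ho f (by simp))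
          (List.Forall₂.cons hx (List.Forall₂.cons hy (List.Forall₂.cons hz List.Forall₂.nil))))
        (by rcases hu2 with rfl | rfl <;> decide)
    have g0 := good_ones hK hφ (os := g :: e :: os) (fun z hz => ho z (List.mem_cons_of_mem _ hz)) (by simp)
    refine ((hG.append g1).append ((g0.append hC).append hW)).perm (perm_of_mset ?_)
    simp only [← Multiset.coe_add, ← Multiset.cons_coe, ← Multiset.singleton_add, Multiset.coe_nil, add_zero]
    abel

end H31.Com.Uni
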