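import Cfsg.Agent.H31.Commutator.Groups
import Cfsg.Agent.H31.Commutator.Tower
import Cfsg.Agent.H31.Unitary.Defs

/-!
Matrices and polynomials over four elements, coded by `0, 1, 2, 3`.
-/

set_option autoImplicit false
set_option linter.unusedSectionVars false

namespace H31.Com.Uni

open Matrix Polynomial
open H89.CN (Sim Dec)

variable {K : Type*} [Field K]

/-- A root of `X² + X + 1` in characteristic two. -/
class Omega (a : K) : Prop where
  char_two : (1 : K) + 1 = 0
  root : a * a = a + 1

/-- The element of a code. -/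
def emb (a : K) (n : ℕ) : K :=
  match n % 4 with
  | 0 => 0
  | 1 => 1
  | 2 => a
  | _ => a + 1

/-- Sum of codes. -/
def add4 (x y : ℕ) : ℕ := (x % 4).xor (y % 4)

/-- Product of codes. -/
def mul4 (x y : ℕ) : ℕ := [0,0,0,0, 0,1,2,3, 0,2,3,1, 0,3,1,2].getD (4 * (x % 4) + y % 4) 0

variable {a : K}

theorem emb_mod (x : ℕ) : emb a (x % 4) = emb a x := by simp [emb]

@[simp] theorem emb_zero : emb a 0 = 0 := rfl

@[simp] theorem emb_one : emb a 1 = 1 := rfl

section
variable [Omega a]

theorem omega_two (a : K) [Omega a] : (2 : K) = 0 := by rw [← one_add_one_eq_two]; exact Omega.char_two (a := a)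

theorem omega_neg (a : K) [Omega a] (x : K) : -x = x := by linear_combination (-x) * omega_two a

theorem emb_add (x y : ℕ) : emb a (add4 x y) = emb a x + emb a y := by
  rw [← emb_mod x, ← emb_mod y, show add4 x y = add4 (x % 4) (y % 4) by simp [add4]]
  have hx := Nat.mod_lt x (show 4 > 0 by norm_num)
  have hy := Nat.mod_lt y (show 4 > 0 by norm_num)
  generalize x % 4 = x at hx ⊢
  generalize y % 4 = y at hy ⊢
  have h2 := omega_two a
  interval_cases x <;> interval_cases y <;> simp [emb, add4] <;>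
    first
      | ring1
      | linear_combination h2
      | linear_combination -h2
      | linear_combination a * h2
      | linear_combination (-a) * h2
      | linear_combination (a + 1) * h2
      | linear_combination (-a - 1) * h2

theorem emb_mul (x y : ℕ) : emb a (mul4 x y) = emb a x * emb a y := by
  rw [← emb_mod x, ← emb_mod y, show mul4 x y = mul4 (x % 4) (y % 4) by simp [mul4]]
  have hx := Nat.mod_lt x (show 4 > 0 by norm_num)
  have hy := Nat.mod_lt y (show 4 > 0 by norm_num)
  generalize x % 4 = x at hx ⊢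
  generalize y % 4 = y at hy ⊢
  have h2 := omega_two a
  have h1 := Omega.root (a := a)
  interval_cases x <;> interval_cases y <;> simp [emb, mul4] <;>
    first
      | linear_combination h1
      | linear_combination -h1
      | linear_combination h1 + a * h2
      | linear_combination -h1 - a * h2
      | linear_combination h1 + (a + 1) * h2
      | linear_combination -h1 - (a + 1) * h2

theorem emb_sq (x : ℕ) : emb a (mul4 x x) = emb a x ^ 2 := by rw [emb_mul, sq]

theorem emb_ne_zero {x : ℕ} (h : (x % 4 != 0) = true) : emb a x ≠ 0 := by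
  rw [← emb_mod x]
  simp only [bne_iff_ne, ne_eq] at h
  have hx := Nat.mod_lt x (show 4 > 0 by norm_num)
  generalize x % 4 = x at hx h ⊢
  have h1 := Omega.root (a := a)
  have h2 := omega_two a
  interval_cases x
  · simp at h
  · simp
  · exact fun e => one_ne_zero (α := K) (by simp [emb] at e; rw [e] at h1; linear_combination -h1)
  · intro e
    simp [emb] at e
    exact one_ne_zero (α := K) (by linear_combination -h1 + (a - 2) * e + h2)

theorem emb_surj (h : ∀ x : K, x ^ 4 = x) (x : K) : ∃ n < 4, emb a n = x := by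
  have h2 := omega_two a
  have h1 := Omega.root (a := a)
  have e : x * (x - 1) * ((x - a) * (x - (a + 1))) = 0 := by
    linear_combination h x + (-(a : K) * x ^ 3 - x ^ 3 + 2 * a * x ^ 2 + x ^ 2 - a * x) * h2 + (x ^ 2 - x) * h1
  rcases mul_eq_zero.1 e with h0 | h0
  · rcases mul_eq_zero.1 h0 with h | h
    · exact ⟨0, by norm_num, by simp [h]⟩
    · exact ⟨1, by norm_num, by simp [sub_eq_zero.1 h]⟩
  · rcases mul_eq_zero.1 h0 with h | h
    · exact ⟨2, by norm_num, by simp [emb, sub_eq_zero.1 h]⟩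
    · exact ⟨3, by norm_num, by simp [emb, sub_eq_zero.1 h]⟩

end

/-! ### Polynomials -/

/-- The polynomial of a list of codes, lowest first. -/
noncomputable def ofE (a : K) : List ℕ → K[X]
  | [] => 0
  | x :: l => C (emb a x) + X * ofE a l

theorem coeff_ofE : ∀ (l : List ℕ) (k : ℕ), (ofE a l).coeff k = emb a (l.getD k 0)
  | [], k => by simp [ofE]
  | x :: l, 0 => by simp [ofE]
  | x :: l, k + 1 => by simp [ofE, coeff_ofE l k, coeff_X_mul]

theorem ofE_congr {l l' : List ℕ} (h : ∀ k, emb a (l.getD k 0) = emb a (l'.getD k 0)) : ofE a l = ofE a l' := by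
  ext k
  rw [coeff_ofE, coeff_ofE, h]

/-- Entrywise sum. -/
def addP4 : List ℕ → List ℕ → List ℕ
  | [], m => m
  | l, [] => l
  | x :: l, y :: m => add4 x y :: addP4 l m

/-- Product. -/
def mulP4 : List ℕ → List ℕ → List ℕ
  | [], _ => []
  | x :: l, m => addP4 (m.map (mul4 x)) (0 :: mulP4 l m)

/-- Equality of coded polynomials. -/
def eqP4 (l m : List ℕ) : Bool :=
  (List.range (l.length + m.length)).all fun k => l.getD k 0 % 4 == m.getD k 0 % 4

theorem ofE_eq_of_eqP {l m : List ℕ} (h : eqP4 l m = true) : ofE a l = ofE a m := by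
  refine ofE_congr fun k => ?_
  by_cases hk : k < l.length + m.length
  · rw [← emb_mod (l.getD k 0), eq_of_beq (List.all_eq_true.1 h k (List.mem_range.2 hk)), emb_mod]
  · rw [List.getD_eq_default _ _ (by omega), List.getD_eq_default _ _ (by omega)]

/-- The monic polynomial of a block code. -/
noncomputable def bpoly (a : K) (m : List ℕ) : K[X] := ofE a (m ++ [1])

theorem mpoly_eq_bpoly (m : List ℕ) : mpoly (fun i : Fin m.length => emb a (m.getD i 0)) = bpoly a m := by
  ext k
  rw [bpoly, coeff_ofE, mpoly, coeff_add, coeff_X_pow, finsetSum_coeff]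
  rcases lt_trichotomy k m.length with hk | rfl | hk
  · rw [Finset.sum_eq_single (⟨k, hk⟩ : Fin m.length) (fun i _ hi => by
      rw [coeff_C_mul, coeff_X_pow, if_neg (fun e => hi (Fin.ext e.symm)), mul_zero]) (by simp),
      List.getD_append _ _ _ _ hk, if_neg hk.ne, zero_add, coeff_C_mul, coeff_X_pow, if_pos rfl, mul_one]
  · rw [Finset.sum_eq_zero (fun i _ => by
      rw [coeff_C_mul, coeff_X_pow, if_neg (fun e => absurd e (ne_of_gt i.isLt)), mul_zero]),
      List.getD_append_right _ _ _ _ le_rfl]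
    simp
  · rw [Finset.sum_eq_zero (fun i _ => by
      rw [coeff_C_mul, coeff_X_pow, if_neg (fun e => absurd e (ne_of_gt (i.isLt.trans hk))), mul_zero]),
      List.getD_eq_default _ _ (by simp; omega), if_neg hk.ne']
    simp

theorem bpoly_monic (m : List ℕ) : (bpoly a m).Monic := by rw [← mpoly_eq_bpoly]; exact mpoly_monic _

theorem bpoly_natDegree (m : List ℕ) : (bpoly a m).natDegree = m.length := by
  rw [← mpoly_eq_bpoly]; exact mpoly_natDegree _

/-- The polynomials of some block codes. -/
noncomputable def bpolys (a : K) (ms : List (List ℕ)) : List K[X] := ms.map (bpoly a)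

section
variable [Omega a]

theorem ofE_addP : ∀ l m : List ℕ, ofE a (addP4 l m) = ofE a l + ofE a m
  | [], m => by simp [addP4, ofE]
  | x :: l, [] => by simp [addP4, ofE]
  | x :: l, y :: m => by simp [addP4, ofE, ofE_addP l m, emb_add]; ring

theorem ofE_map_mul (x : ℕ) : ∀ m : List ℕ, ofE a (m.map (mul4 x)) = C (emb a x) * ofE a m
  | [] => by simp [ofE]
  | y :: m => by simp [ofE, ofE_map_mul x m, emb_mul]; ring

theorem ofE_mulP : ∀ l m : List ℕ, ofE a (mulP4 l m) = ofE a l * ofE a m
  | [], m => by simp [mulP4, ofE]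
  | x :: l, m => by simp [mulP4, ofE_addP, ofE_map_mul, ofE, ofE_mulP l m]; ring

theorem cd_bpoly {m : List ℕ} (hm : 0 < m.length) : cd (bpoly a m) = emb a (m.getD 0 0) := by
  rw [cd, bpoly_natDegree, bpoly, coeff_ofE, List.getD_append _ _ _ _ hm, omega_neg a (1 : K), one_pow, one_mul]

/-- A Bézout certificate. -/
def bez4 (p r u v : List ℕ) : Bool := eqP4 (addP4 (mulP4 u p) (mulP4 v r)) [1]

theorem coprime_of_bez4 {p r u v : List ℕ} (h : bez4 p r u v = true) : IsCoprime (ofE a p) (ofE a r) :=
  ⟨ofE a u, ofE a v, by rw [← ofE_mulP, ← ofE_mulP, ← ofE_addP, ofE_eq_of_eqP h]; simp [ofE]⟩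

end

/-! ### Matrices -/

/-- A coded matrix. -/
def ME (a : K) (n : ℕ) (f : ℕ → ℕ → ℕ) : Matrix (Fin n) (Fin n) K := Matrix.of fun i j => emb a (f i j)

/-- Product. -/
def mulM4 (n : ℕ) (A B : List (List ℕ)) : List (List ℕ) :=
  tab n fun i j => ((List.range n).map fun k => mul4 (ent A i k) (ent B k j)).foldr add4 0

/-- Equality. -/
def eqM4 (n : ℕ) (A B : List (List ℕ)) : Bool := eqM 4 n A B

/-- The conjugate transpose. -/
def starM4 (n : ℕ) (A : List (List ℕ)) : List (List ℕ) := tab n fun i j => mul4 (ent A j i) (ent A j i)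

theorem ME_eq_of_eqM4 {n : ℕ} {A B : List (List ℕ)} (h : eqM4 n A B = true) :
    ME a n (ent A) = ME a n (ent B) := by
  ext i j
  show emb a (ent A i j) = emb a (ent B i j)
  rw [← emb_mod (ent A i j), eq_of_beq (List.all_eq_true.1 (List.all_eq_true.1 h i (List.mem_range.2 i.isLt)) j
    (List.mem_range.2 j.isLt)), emb_mod]

theorem ME_oneM (n : ℕ) : ME a n (ent (oneM n)) = 1 := by
  ext i j
  simp only [ME, of_apply, oneM, ent_tab _ i.isLt j.isLt, Matrix.one_apply, Fin.val_inj]
  split <;> simp

theorem ME_tab (n : ℕ) (f : ℕ → ℕ → ℕ) : ME a n (ent (tab n f)) = ME a n f := by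
  ext i j
  simp [ME, ent_tab _ i.isLt j.isLt]

/-- Block diagonal companion matrices. -/
def bEnt4 : List (List ℕ) → ℕ → ℕ → ℕ
  | [], _, _ => 0
  | m :: l, i, j =>
    if i < m.length then
      (if j < m.length then (if i + 1 < m.length then (if j = i + 1 then 1 else 0) else m.getD j 0) else 0)
    else (if j < m.length then 0 else bEnt4 l (i - m.length) (j - m.length))

/-- The product of the constant terms. -/
def det4 : List (List ℕ) → ℕ
  | [] => 1
  | m :: l => mul4 (m.getD 0 0) (det4 l)

section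
variable [Omega a]

theorem ME_mulM4 (n : ℕ) (A B : List (List ℕ)) :
    ME a n (ent (mulM4 n A B)) = ME a n (ent A) * ME a n (ent B) := by
  ext i j
  simp only [ME, Matrix.mul_apply, of_apply, mulM4, ent_tab _ i.isLt j.isLt]
  have key : ∀ l : List ℕ, emb a (l.foldr add4 0) = (l.map (emb a)).sum := by
    intro l; induction l with
    | nil => simp
    | cons x l ih => simp [emb_add, ih]
  rw [key, List.map_map, Finset.sum_fin_eq_sum_range, ← List.toFinset_range]
  rw [List.sum_toFinset _ List.nodup_range]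
  refine congrArg List.sum (List.map_congr_left fun k hk => ?_)
  rw [dif_pos (List.mem_range.1 hk), Function.comp_apply, emb_mul]

theorem ME_starM4 (n : ℕ) (A : List (List ℕ)) {σ : K →+* K} (hσ : ∀ x, σ x = x ^ 2) :
    ME a n (ent (starM4 n A)) = ((ME a n (ent A)).map σ)ᵀ := by
  ext i j
  simp [ME, starM4, ent_tab _ i.isLt j.isLt, emb_sq, hσ]

theorem det_triu4 {n : ℕ} {lower : Bool} {A : List (List ℕ)} (h : triu 4 n lower A = true) :
    (ME a n (ent A)).det = 1 := by
  have h1 : ∀ i j : Fin n, _ := fun i j => List.all_eq_true.1 (List.all_eq_true.1 h i (List.mem_range.2 i.isLt)) j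
    (List.mem_range.2 j.isLt)
  have hdiag : ∀ i : Fin n, emb a (ent A i i) = 1 := fun i => by
    have := h1 i i
    rw [if_pos rfl] at this
    rw [← emb_mod (ent A i i), eq_of_beq this]
    simp
  have hoff : ∀ i j : Fin n, i ≠ j → (if lower then decide (j.val < i.val) else decide (i.val < j.val)) = false →
      emb a (ent A i j) = 0 := fun i j hij hb => by
    have := h1 i j
    rw [if_neg (fun e => hij (Fin.ext e)), hb, Bool.false_or] at this
    rw [← emb_mod (ent A i j), eq_of_beq this, emb_zero]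
  cases lower with
  | true =>
    refine (det_of_lowerTriangular _ fun i j hij => hoff i j (ne_of_lt (OrderDual.toDual_lt_toDual.1 hij)) (by
      simpa using (OrderDual.toDual_lt_toDual.1 hij).le)).trans ?_
    exact Finset.prod_eq_one fun i _ => hdiag i
  | false =>
    refine (det_of_upperTriangular fun i j hij => hoff i j (ne_of_gt hij) (by simpa using (le_of_lt (show j < i from hij)))).trans ?_
    exact Finset.prod_eq_one fun i _ => hdiag i

theorem bEnt4_cons (m : List ℕ) (l : List (List ℕ)) :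
    ME a (m.length + tot l) (bEnt4 (m :: l)) = Matrix.reindex finSumFinEquiv finSumFinEquiv
      (fromBlocks (cmat fun i : Fin m.length => emb a (m.getD i 0)) 0 0 (ME a (tot l) (bEnt4 l))) := by
  ext i j
  induction i using Fin.addCases with
  | left i =>
    induction j using Fin.addCases with
    | left j =>
      simp [ME, bEnt4, cmat, i.isLt, j.isLt]
      split_ifs <;> simp [omega_neg a]
    | right j => simp [ME, bEnt4, i.isLt]
  | right i =>
    induction j using Fin.addCases with
    | left j => simp [ME, bEnt4, j.isLt]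
    | right j => simp [ME, bEnt4]

theorem aeval_bmat4 : ∀ as : List (List ℕ),
    aeval (ME a (tot as) (bEnt4 as)) (bpolys a as).prod = 0
  | [] => Subsingleton.elim (α := Matrix (Fin 0) (Fin 0) K) _ _
  | m :: l => by
    suffices h : aeval (ME a (m.length + tot l) (bEnt4 (m :: l))) (bpolys a (m :: l)).prod = 0 from h
    rw [bEnt4_cons, aeval_reindex, aeval_fromBlocks, bpolys, List.map_cons, List.prod_cons, map_mul, map_mul,
      ← mpoly_eq_bpoly, aeval_cmat, Matrix.zero_mul, show (l.map (bpoly a)).prod = (bpolys a l).prod from rfl,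
      aeval_bmat4 l, Matrix.mul_zero, fromBlocks_zero]
    rfl

theorem det_bmat4 : ∀ as : List (List ℕ), (∀ m ∈ as, m ≠ []) →
    (ME a (tot as) (bEnt4 as)).det = emb a (det4 as)
  | [], _ => by rw [det4, emb_one]; exact Matrix.det_fin_zero
  | m :: l, h => by
    show (ME a (m.length + tot l) (bEnt4 (m :: l))).det = _
    rw [bEnt4_cons, det_reindex_self, det_fromBlocks_zero₁₂, det_bmat4 l (fun b hb => h b (List.mem_cons_of_mem _ hb))]
    have hm : 0 < m.length := List.length_pos_of_ne_nil (h m (List.mem_cons_self ..))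
    rw [det4, emb_mul, ← cd_bpoly hm, ← mpoly_eq_bpoly, cd_mpoly hm]

/-- A decomposition into the given blocks. -/
theorem simTo_of_dec4 : ∀ (as : List (List ℕ)) {n : ℕ} (A : Matrix (Fin n) (Fin n) K),
    Dec A (bpolys a as) → SimTo A (ME a (tot as) (bEnt4 as))
  | [], n, A, h => by
    have hn : n = 0 := h
    subst hn
    exact ⟨Equiv.refl _, by rw [Subsingleton.elim A (Matrix.reindex _ _ _)]; exact Sim.refl _⟩
  | m :: l, n, A, h => by
    obtain ⟨-, -, N, e, A₂, hs, h2⟩ := h
    obtain ⟨e₂, hs₂⟩ := simTo_of_dec4 l A₂ h2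
    have hd : (bpoly a m).natDegree = m.length := bpoly_natDegree m
    set c : Fin m.length ≃ Fin (bpoly a m).natDegree := finCongr hd.symm
    refine ⟨finSumFinEquiv.symm.trans ((c.sumCongr e₂).trans e), hs.trans ?_⟩
    show Sim _ (Matrix.reindex _ _ (ME a (m.length + tot l) (bEnt4 (m :: l))))
    rw [bEnt4_cons]
    have e1 : H89.CN.rComp (bpoly a m).natDegree (bpoly a m) =
        Matrix.reindex c c (cmat fun i : Fin m.length => emb a (m.getD i 0)) := by
      ext i j
      simp only [rComp_eq_cmat, cmat, c, hd, reindex_apply, submatrix_apply, Matrix.of_apply, finCongr_symm,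
        finCongr_apply, Fin.val_cast]
      have hc : ∀ k, k < m.length → (bpoly a m).coeff k = emb a (m.getD k 0) := fun k hk => by
        unfold bpoly; rw [coeff_ofE, List.getD_append _ _ _ _ hk]
      rw [hc _ (hd ▸ j.isLt)]
    rw [e1]
    refine (Sim.reindex (Sim.blocks (Sim.refl _) hs₂) e).trans ?_
    refine (congrArg (fun X => Sim X _) ?_).mpr (Sim.refl _)
    ext x y
    obtain ⟨u, rfl⟩ := e.surjective x
    obtain ⟨v, rfl⟩ := e.surjective y
    rcases u with u | u <;> rcases v with v | v <;> simp [c]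

end

/-! ### Witnesses -/

/-- The witness check; `star` selects the second variant. -/
def chk4 (star : Bool) (ms as : List (List ℕ)) : Wit → Bool
  | (S, Si, L, U, V) =>
    let n := tot ms
    let M := tab n (bEnt4 ms)
    let A := tab n (bEnt4 as)
    let P := mulM4 n (mulM4 n L U) V
    decide (tot as = n) && as.all (fun m => !m.isEmpty) && (det4 as == 1) && eqM4 n (mulM4 n Si S) (oneM n) &&
      triu 4 n true L && triu 4 n false U && triu 4 n true V &&
      (if star then eqM4 n (mulM4 n (mulM4 n M S) P) (mulM4 n (mulM4 n (mulM4 n S A) P) (starM4 n A))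
        else eqM4 n (mulM4 n (mulM4 n (mulM4 n M S) P) A) (mulM4 n (mulM4 n S A) P))

/-- `M = A P A* P⁻¹` with `det A = det P = 1` and `Φ(A) = 0`. -/
def Fac2 {ι : Type*} [Fintype ι] [DecidableEq ι] (σ : K →+* K) (Φ : K[X]) (M : Matrix ι ι K) : Prop :=
  ∃ A P : Matrix ι ι K, A.det = 1 ∧ P.det = 1 ∧ aeval A Φ = 0 ∧ M * P = A * P * (A.map σ)ᵀ

section
variable [Omega a]

theorem chk4_data {star : Bool} {ms as : List (List ℕ)} {w : Wit} (h : chk4 star ms as w = true) :
    ∃ A P S T : Matrix (Fin (tot ms)) (Fin (tot ms)) K, T * S = 1 ∧ A.det = 1 ∧ P.det = 1 ∧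
      aeval A (bpolys a as).prod = 0 ∧
      (star = false → ME a (tot ms) (bEnt4 ms) * S * P * A = S * A * P) ∧
      (star = true → ∀ σ : K →+* K, (∀ x, σ x = x ^ 2) →
        ME a (tot ms) (bEnt4 ms) * S * P = S * A * P * (A.map σ)ᵀ) := by
  obtain ⟨S, Si, L, U, V⟩ := w
  simp only [chk4, Bool.and_eq_true, decide_eq_true_eq, List.all_eq_true, beq_iff_eq] at h
  obtain ⟨⟨⟨⟨⟨⟨⟨hn, hne⟩, hd⟩, hS⟩, hL⟩, hU⟩, hV⟩, hM⟩ := h
  have hS' := ME_eq_of_eqM4 (a := a) hS
  rw [ME_mulM4, ME_oneM] at hS'
  have hne' : ∀ m ∈ as, m ≠ [] := fun m hm e => by simpa [e] using hne m hm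
  have hA := aeval_bmat4 (a := a) as
  have hdA := det_bmat4 (a := a) as hne'
  rw [hn] at hA hdA
  refine ⟨ME a (tot ms) (bEnt4 as),
    ME a (tot ms) (ent L) * ME a (tot ms) (ent U) * ME a (tot ms) (ent V),
    ME a (tot ms) (ent S), ME a (tot ms) (ent Si), hS', by rw [hdA, hd, emb_one],
    by rw [det_mul, det_mul, det_triu4 hL, det_triu4 hU, det_triu4 hV, one_mul, one_mul], hA, ?_, ?_⟩
  · rintro rfl
    have hM' := ME_eq_of_eqM4 (a := a) (by simpa using hM)
    simp only [ME_mulM4, ME_tab] at hM'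
    exact hM'
  · rintro rfl σ hσ
    have hM' := ME_eq_of_eqM4 (a := a) (by simpa using hM)
    simp only [ME_mulM4, ME_tab, ME_starM4 (σ := σ) _ _ hσ] at hM'
    exact hM'

/-- A checked witness gives a factorisation. -/
theorem fac_of_chk4 {ms as : List (List ℕ)} {w : Wit} (h : chk4 false ms as w = true) :
    Fac (bpolys a as).prod 1 (ME a (tot ms) (bEnt4 ms)) := by
  obtain ⟨A, P, S, T, hTS, hdA, hdP, hA, h1, -⟩ := chk4_data (a := a) h
  set M := ME a (tot ms) (bEnt4 ms)
  have hsim : Sim M (T * M * S) := ⟨T, IsUnit.of_mul_eq_one S.det (by rw [← det_mul, hTS, det_one]), by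
    rw [Matrix.mul_assoc (T * M), mul_eq_one_comm.1 hTS, Matrix.mul_one]⟩
  refine Fac.of_sim ⟨A, P, hdA, hdP, hA, ?_⟩ hsim
  calc T * M * S * P * A = T * (M * S * P * A) := by simp only [Matrix.mul_assoc]
    _ = T * S * (A * P) := by rw [h1 rfl]; simp only [Matrix.mul_assoc]
    _ = A * P := by rw [hTS, Matrix.one_mul]

/-- A checked witness gives a twisted factorisation. -/
theorem fac2_of_chk4 {σ : K →+* K} (hσ : ∀ x, σ x = x ^ 2) (hK : ∀ x : K, x ≠ 0 → x ^ 3 = 1)
    {ms as : List (List ℕ)} {w : Wit} (h : chk4 true ms as w = true) :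
    Fac2 σ (bpolys a as).prod (ME a (tot ms) (bEnt4 ms)) := by
  obtain ⟨A, P, S, T, hTS, hdA, hdP, hA, -, h2⟩ := chk4_data (a := a) h
  have e := h2 rfl σ hσ
  have hST : S * T = 1 := mul_eq_one_comm.1 hTS
  have hS : S.det ≠ 0 := left_ne_zero_of_mul (b := T.det) (by rw [← det_mul, hST, det_one]; exact one_ne_zero)
  refine ⟨S * A * T, S * P * (S.map σ)ᵀ, ?_, ?_, ?_, ?_⟩
  · rw [det_mul_right_comm, hST, Matrix.one_mul, hdA]
  · rw [det_mul, det_mul, det_transpose, hdP, mul_one, show (S.map σ).det = σ S.det from (RingHom.map_det σ S).symm]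
    rw [hσ, ← pow_succ', hK _ hS]
  · have h1 := aeval_conj (P := S) (A := A) (B := S * A * T)
      (by rw [Matrix.mul_assoc _ T, hTS, Matrix.mul_one]) (bpolys a as).prod
    rw [hA, Matrix.mul_zero] at h1
    have h2 := congrArg (· * T) h1.symm
    simpa [Matrix.mul_assoc, hST] using h2
  · have hmap : (S.map σ)ᵀ * ((S * A * T).map σ)ᵀ = (A.map σ)ᵀ * (S.map σ)ᵀ := by
      rw [← transpose_mul, ← transpose_mul, ← Matrix.map_mul, Matrix.mul_assoc, Matrix.mul_assoc, hTS, Matrix.mul_one,
        Matrix.map_mul]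
    calc ME a (tot ms) (bEnt4 ms) * (S * P * (S.map σ)ᵀ) = ME a (tot ms) (bEnt4 ms) * S * P * (S.map σ)ᵀ := by
          simp only [Matrix.mul_assoc]
      _ = S * A * (T * S) * P * ((S.map σ)ᵀ * ((S * A * T).map σ)ᵀ) := by
          rw [e, hTS, Matrix.mul_one, hmap]; simp only [Matrix.mul_assoc]
      _ = _ := by simp only [Matrix.mul_assoc]

end

end H31.Com.Uni
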