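import Cfsg.Agent.H31.Commutator.Groups
import Cfsg.Agent.H41.CommFactor

/-!
Companion corners which are themselves commutators.
-/

set_option autoImplicit false
set_option linter.unusedSectionVars false

namespace H31.Com.Uni

open Matrix Polynomial
open H89.CN (Sim Dec rComp rowEnd)
open H31.Com

variable {K : Type*} [Field K]

/-- A corner `C` with `N` left over. -/
def RedK {ι μ κ : Type*} [Fintype ι] [DecidableEq ι] [Fintype μ] [DecidableEq μ] [Fintype κ] [DecidableEq κ]
    (M : Matrix ι ι K) (C : Matrix μ μ K) (N : Matrix κ κ K) : Prop :=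
  ∃ (Y : Matrix μ κ K) (c : Matrix κ μ K), SimTo M (fromBlocks C (C * Y) c (c * Y + N))

theorem RedK.fac {ι μ κ : Type*} [Fintype ι] [DecidableEq ι] [Fintype μ] [DecidableEq μ] [Fintype κ] [DecidableEq κ]
    {M : Matrix ι ι K} {C : Matrix μ μ K} {N : Matrix κ κ K} (h : RedK M C N) {Φ Ψ : K[X]} {ε δ : K}
    (hcop : IsCoprime Φ Ψ) (hε : ε ≠ 0) (hδ : δ ≠ 0) (hC : Fac Φ ε C) (hN : Fac Ψ δ N) :
    Fac (Φ * Ψ) (ε * δ) M := by
  obtain ⟨Y, c, hs⟩ := h
  refine Fac.of_simTo ?_ hs
  obtain ⟨A, P, hA, hP, hAΦ, hC⟩ := hC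
  obtain ⟨B, Q, hB, hQ, hBΨ, hN⟩ := hN
  have uA : IsUnit A.det := IsUnit.mk0 _ (by rw [hA]; exact hε)
  have uP : IsUnit P.det := by rw [hP]; exact isUnit_one
  have uC : IsUnit C.det := IsUnit.mk0 _ fun e => by
    have h1 := congrArg Matrix.det hC
    simp [det_mul, e, hA, hP, eq_comm] at h1
    exact hε h1
  have hA' : C⁻¹ * A = P * A * P⁻¹ := by
    have h1 : C⁻¹ * (A * P) = P * A := by
      rw [← hC, Matrix.mul_assoc C P A, nonsing_inv_mul_cancel_left _ _ uC]
    rw [← h1, ← Matrix.mul_assoc, mul_nonsing_inv_cancel_right _ _ uP]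
  have hA'Φ : aeval (C⁻¹ * A) Φ = 0 := by
    have h1 := aeval_conj (P := P) (A := A) (B := C⁻¹ * A) (by
      rw [hA', Matrix.mul_assoc _ P⁻¹ P, nonsing_inv_mul _ uP, Matrix.mul_one]) Φ
    rw [hAΦ, Matrix.mul_zero] at h1
    have h2 := congrArg (· * P⁻¹) h1.symm
    simpa [Matrix.mul_assoc, mul_nonsing_inv _ uP] using h2
  obtain ⟨Z, hZ⟩ := exists_sylvester hcop hAΦ hBΨ (c * (C⁻¹ * A))
  obtain ⟨W, hW⟩ := exists_sylvester hcop.symm hBΨ hA'Φ (-(Y * Q * B))
  set S : Matrix (μ ⊕ κ) (μ ⊕ κ) K := fromBlocks 1 0 Z 1 with hS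
  set T : Matrix (μ ⊕ κ) (μ ⊕ κ) K := fromBlocks 1 0 (-Z) 1 with hT
  have hTS : T * S = 1 := by simp [hS, hT, fromBlocks_multiply]
  have hST : S * T = 1 := by simp [hS, hT, fromBlocks_multiply]
  set D : Matrix (μ ⊕ κ) (μ ⊕ κ) K := fromBlocks A 0 0 B with hD
  set U : Matrix (μ ⊕ κ) (μ ⊕ κ) K := fromBlocks P W 0 Q with hU
  have hL : fromBlocks C (C * Y) c (c * Y + N) * U * D = fromBlocks A 0 (c * (C⁻¹ * A)) B * U := by
    have hCA : C * (C⁻¹ * A) = A := mul_nonsing_inv_cancel_left _ _ uC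
    have h12 : (W + Y * Q) * B = C⁻¹ * A * W := by
      rw [Matrix.add_mul, ← sub_eq_zero, show W * B + Y * Q * B - C⁻¹ * A * W = (W * B - C⁻¹ * A * W) + Y * Q * B by
        abel, hW, neg_add_cancel]
    have h21 : P * A = C⁻¹ * A * P := by rw [hA', Matrix.mul_assoc _ P⁻¹, nonsing_inv_mul _ uP, Matrix.mul_one]
    simp only [hU, hD, fromBlocks_multiply, Matrix.mul_zero, Matrix.zero_mul, add_zero, zero_add]
    congr 1
    · calc (C * W + C * Y * Q) * B = C * ((W + Y * Q) * B) := by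
            simp only [Matrix.add_mul, Matrix.mul_add, Matrix.mul_assoc]
        _ = A * W := by rw [h12, ← Matrix.mul_assoc, hCA]
    · rw [Matrix.mul_assoc c P A, h21]
      simp only [Matrix.mul_assoc]
    · calc (c * W + (c * Y + N) * Q) * B = c * ((W + Y * Q) * B) + N * Q * B := by
            simp only [Matrix.add_mul, Matrix.mul_add, Matrix.mul_assoc, add_assoc]
        _ = c * (C⁻¹ * A) * W + B * Q := by rw [h12, hN]; simp only [Matrix.mul_assoc]
  have hA₁ : S * D * T = fromBlocks A 0 (c * (C⁻¹ * A)) B := by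
    simp [hS, hT, hD, fromBlocks_multiply, ← hZ, sub_eq_add_neg]
  refine ⟨S * D * T, U * T, ?_, ?_, ?_, ?_⟩
  · simp [hS, hT, hD, det_mul, hA, hB]
  · simp [hU, hT, det_mul, hP, hQ]
  · have h1 := aeval_conj (P := S) (A := D) (B := S * D * T)
      (by rw [Matrix.mul_assoc (S * D), hTS, Matrix.mul_one]) (Φ * Ψ)
    rw [hD, aeval_fromBlocks, map_mul, map_mul, hAΦ, hBΨ, Matrix.zero_mul, Matrix.mul_zero, fromBlocks_zero,
      Matrix.mul_zero] at h1
    have h2 := congrArg (· * T) h1.symm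
    simp only [Matrix.mul_assoc, hST, Matrix.mul_one, Matrix.zero_mul, ← hD] at h2
    rw [Matrix.mul_assoc]
    exact h2
  · calc fromBlocks C (C * Y) c (c * Y + N) * (U * T) * (S * D * T)
        = fromBlocks C (C * Y) c (c * Y + N) * U * (T * S) * D * T := by simp only [Matrix.mul_assoc]
      _ = fromBlocks C (C * Y) c (c * Y + N) * U * D * T := by rw [hTS, Matrix.mul_one]
      _ = S * D * T * (U * T) := by rw [hL, ← hA₁]; simp only [Matrix.mul_assoc]

theorem RedK.zero {ι : Type*} [Fintype ι] [DecidableEq ι] (M : Matrix ι ι K) :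
    RedK M (0 : Matrix (Fin 0) (Fin 0) K) M := by
  refine ⟨0, 0, Equiv.emptySum (Fin 0) ι, ?_⟩
  refine (congrArg (Sim M) ?_).mpr (Sim.refl M)
  ext i k
  simp [Equiv.emptySum]

theorem RedK.sum {ι₁ ι₂ μ₁ μ₂ κ₁ κ₂ : Type*} [Fintype ι₁] [DecidableEq ι₁] [Fintype ι₂] [DecidableEq ι₂] [Fintype μ₁]
    [DecidableEq μ₁] [Fintype μ₂] [DecidableEq μ₂] [Fintype κ₁] [DecidableEq κ₁] [Fintype κ₂] [DecidableEq κ₂]
    {M₁ : Matrix ι₁ ι₁ K} {M₂ : Matrix ι₂ ι₂ K} {C₁ : Matrix μ₁ μ₁ K} {C₂ : Matrix μ₂ μ₂ K} {N₁ : Matrix κ₁ κ₁ K}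
    {N₂ : Matrix κ₂ κ₂ K} (h₁ : RedK M₁ C₁ N₁) (h₂ : RedK M₂ C₂ N₂) :
    RedK (fromBlocks M₁ 0 0 M₂) (fromBlocks C₁ 0 0 C₂) (fromBlocks N₁ 0 0 N₂) := by
  obtain ⟨Y₁, c₁, e₁, s₁⟩ := h₁
  obtain ⟨Y₂, c₂, e₂, s₂⟩ := h₂
  refine ⟨fromBlocks Y₁ 0 0 Y₂, fromBlocks c₁ 0 0 c₂, (Equiv.sumSumSumComm μ₁ μ₂ κ₁ κ₂).trans (e₁.sumCongr e₂), ?_⟩
  refine (show _ = Matrix.reindex _ _ _ from ?_) ▸ Sim.blocks s₁ s₂
  ext x y
  obtain ⟨u, rfl⟩ := (e₁.sumCongr e₂).surjective x
  obtain ⟨v, rfl⟩ := (e₁.sumCongr e₂).surjective y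
  rcases u with (u | u) | (u | u) <;> rcases v with (v | v) | (v | v) <;>
    simp [fromBlocks_multiply]

theorem RedK.of_simTo {ι ι' μ κ : Type*} [Fintype ι] [DecidableEq ι] [Fintype ι'] [DecidableEq ι'] [Fintype μ]
    [DecidableEq μ] [Fintype κ] [DecidableEq κ] {M : Matrix ι ι K} {M' : Matrix ι' ι' K} {C : Matrix μ μ K}
    {N : Matrix κ κ K} (h : RedK M' C N) (hs : SimTo M M') : RedK M C N := by
  obtain ⟨Y, c, h⟩ := h
  exact ⟨Y, c, hs.trans h⟩

/-- A coefficient row. -/
noncomputable def crow {n : ℕ} (p : K[X]) : Fin n → K := fun k => p.coeff k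

theorem crow_vecMul {n : ℕ} (f p : K[X]) (hn : f.natDegree = n) (hf : f.Monic) :
    (crow p : Fin n → K) ᵥ* cmat (fun i : Fin n => f.coeff i) = crow (X * p - C (p.coeff (n - 1)) * f) := by
  funext l
  have hl := l.isLt
  have hlast : ∀ x : Fin n, ¬ x.val + 1 < n → x.val = n - 1 := fun x hx => by have := x.isLt; omega
  rw [vecMul, dotProduct]
  obtain ⟨l, hl'⟩ := l
  simp only [crow, coeff_sub, coeff_C_mul]
  rcases l with _ | l
  · rw [Finset.sum_eq_single (⟨n - 1, by omega⟩ : Fin n)]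
    · simp [cmat, show ¬ n - 1 + 1 < n by omega]
    · intro x _ hx
      have h1 : x.val + 1 < n := by
        by_contra hc; exact hx (Fin.ext (hlast x hc))
      simp [cmat, h1]
    · simp
  · rw [coeff_X_mul, Finset.sum_eq_add (⟨l, by omega⟩ : Fin n) (⟨n - 1, by omega⟩ : Fin n)]
    · simp [cmat, show l + 1 < n from hl', show ¬ n - 1 + 1 < n by omega, sub_eq_add_neg]
    · intro e; simp [Fin.ext_iff] at e; omega
    · intro x _ hx
      have h1 : x.val + 1 < n := by
        by_contra hc; exact hx.2 (Fin.ext (hlast x hc))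
      have h2 : ¬ l = x.val := fun e => hx.1 (Fin.ext e.symm)
      simp [cmat, h1, h2]
    · simp
    · simp

/-- **A companion matrix has any companion matrix as a corner.** -/
theorem head_red {f χ : K[X]} {j t : ℕ} (hf : f.Monic) (hχ : χ.Monic) (hj : χ.natDegree = j) (hn : f.natDegree = j + t)
    (hj0 : 0 < j) (ht : 0 < t) (hχ0 : χ.coeff 0 ≠ 0) :
    ∃ g : K[X], g.Monic ∧ g.natDegree = t ∧ cd g * cd χ = cd f ∧
      RedK (cmat fun i : Fin (j + t) => f.coeff i) (cmat fun i : Fin j => χ.coeff i)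
        (cmat fun i : Fin t => g.coeff i) := by
  classical
  set ρ := f %ₘ χ with hρ
  set a := ρ.coeff 0 / χ.coeff 0 with ha
  set q := f /ₘ χ with hq
  set g := q + C a with hg
  have hρd : ρ.degree < j := by
    rw [← hj, ← degree_eq_natDegree hχ.ne_zero]; exact degree_modByMonic_lt f hχ
  have hfeq : ρ + χ * q = f := modByMonic_add_div f χ
  have hqd : q.natDegree = t := by rw [hq, natDegree_divByMonic f hχ, hn, hj, Nat.add_sub_cancel_left]
  have hdeg : χ.degree ≤ f.degree := by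
    rw [degree_eq_natDegree hχ.ne_zero, degree_eq_natDegree hf.ne_zero, hj, hn]; exact_mod_cast Nat.le_add_right j t
  have hqm : q.Monic := by
    show q.leadingCoeff = 1
    rw [hq, leadingCoeff_divByMonic_of_monic hχ hdeg, hf]
  have hgm : g.Monic := hqm.add_of_left (lt_of_le_of_lt degree_C_le (by
    rw [degree_eq_natDegree hqm.ne_zero, hqd]; exact_mod_cast ht))
  have hgd : g.natDegree = t := by rw [hg, natDegree_add_C, hqd]
  refine ⟨g, hgm, hgd, ?_, ?_⟩
  · rw [cd, cd, cd, hgd, hn, hj, ← hfeq, hg, pow_add, ha]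
    simp only [coeff_add, mul_coeff_zero, coeff_C_zero]
    field_simp
    ring
  let Y : Matrix (Fin j) (Fin t) K :=
    Matrix.of fun i l => if i.val = 0 ∧ l.val = 0 then -(χ.coeff 0)⁻¹ else 0
  let c : Matrix (Fin t) (Fin j) K := Matrix.of fun l i => if l.val + 1 = t then -ρ.coeff i else 0
  set Cχ : Matrix (Fin j) (Fin j) K := cmat fun i : Fin j => χ.coeff i
  set Cg : Matrix (Fin t) (Fin t) K := cmat fun i : Fin t => g.coeff i
  have hCY : ∀ (i : Fin j) (l : Fin t), (Cχ * Y) i l = if i.val + 1 = j ∧ l.val = 0 then 1 else 0 := by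
    intro i l
    rw [Matrix.mul_apply, Finset.sum_eq_single (⟨0, hj0⟩ : Fin j)]
    · by_cases hi : i.val + 1 < j
      · simp [Cχ, cmat, hi, show ¬ i.val + 1 = j by omega]
      · have : i.val + 1 = j := by have := i.isLt; omega
        by_cases hl : l.val = 0 <;> simp [Cχ, Y, cmat, this, hl, hχ0]
    · intro x _ hx
      simp [Y, show ¬ x.val = 0 from fun e => hx (Fin.ext e)]
    · simp
  have hcY : ∀ (l l' : Fin t), (c * Y) l l' = if l.val + 1 = t ∧ l'.val = 0 then a else 0 := by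
    intro l l'
    rw [Matrix.mul_apply, Finset.sum_eq_single (⟨0, hj0⟩ : Fin j)]
    · by_cases h1 : l.val + 1 = t <;> by_cases h2 : l'.val = 0 <;> simp [c, Y, h1, h2, ha, div_eq_mul_inv]
    · intro x _ hx
      simp [Y, show ¬ x.val = 0 from fun e => hx (Fin.ext e)]
    · simp
  let pol : Fin j ⊕ Fin t → K[X] := Sum.elim (fun i => X ^ i.val) fun l => X ^ l.val * χ
  let e : Fin j ⊕ Fin t ≃ Fin (j + t) := finSumFinEquiv
  let R : Matrix (Fin j ⊕ Fin t) (Fin j ⊕ Fin t) K := fun s k => (pol s).coeff (e k)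
  have hR : R.det = 1 := by
    have hR1 : R = fromBlocks 1 0 R.toBlocks₂₁ R.toBlocks₂₂ := by
      conv_lhs => rw [← fromBlocks_toBlocks R]
      congr 1
      · ext i k
        simp [toBlocks₁₁, R, pol, e, coeff_X_pow, Matrix.one_apply, Fin.ext_iff, eq_comm]
      · ext i k
        have := i.isLt
        simp [toBlocks₁₂, R, pol, e, coeff_X_pow, show ¬ j + k.val = i.val by omega]
    rw [hR1, det_fromBlocks_zero₁₂, det_one, one_mul]
    refine (det_of_lowerTriangular _ fun i k hik => ?_).trans (Finset.prod_eq_one fun i _ => ?_)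
    · have hlt : i.val < k.val := OrderDual.toDual_lt_toDual.1 hik
      show ((X : K[X]) ^ i.val * χ).coeff (e (Sum.inr k)).val = 0
      refine coeff_eq_zero_of_natDegree_lt ?_
      rw [natDegree_mul (pow_ne_zero _ X_ne_zero) hχ.ne_zero, natDegree_X_pow, hj]
      simp [e]; omega
    · show ((X : K[X]) ^ i.val * χ).coeff (e (Sum.inr i)).val = 1
      rw [show (e (Sum.inr i)).val = i.val + χ.natDegree by simp [e, hj]; omega, coeff_X_pow_mul', if_pos (by omega),
        show i.val + χ.natDegree - i.val = χ.natDegree by omega, hχ.coeff_natDegree]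
  set M' := fromBlocks Cχ (Cχ * Y) c (c * Y + Cg) with hM'
  suffices key : ∀ s, (crow (pol s) : Fin (j + t) → K) ᵥ* (cmat fun i : Fin (j + t) => f.coeff i) =
      crow (∑ u, C (M' s u) * pol u) by
    refine ⟨Y, c, e, Matrix.reindex e e R, by rw [det_reindex_self, hR]; exact isUnit_one, ?_⟩
    ext x k
    obtain ⟨s, rfl⟩ := e.surjective x
    have h1 := congrFun (key s) k
    have h2 : ∀ y, (Matrix.reindex e e R) (e s) y = (pol s).coeff y := fun y => by
      rw [reindex_apply, submatrix_apply, e.symm_apply_apply]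
      exact congrArg (fun z : Fin (j + t) => (pol s).coeff z.val) (e.apply_symm_apply y)
    rw [Matrix.mul_apply]
    simp only [h2]
    refine h1.trans ?_
    obtain ⟨u, rfl⟩ := e.surjective k
    rw [← hM', reindex_apply, reindex_apply, submatrix_mul_equiv]
    rw [submatrix_apply, e.symm_apply_apply, e.symm_apply_apply, Matrix.mul_apply]
    simp [crow, R, finsetSum_coeff, Fintype.sum_sum_type]
  have hpd : ∀ (l : Fin t), ((X : K[X]) ^ l.val * χ).natDegree = l.val + j := fun l => by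
    rw [natDegree_mul (pow_ne_zero _ X_ne_zero) hχ.ne_zero, natDegree_X_pow, hj]
  intro s
  rw [crow_vecMul f (pol s) hn hf]
  rcases s with i | l
  · have hsum : ∑ u, C (M' (Sum.inl i) u) * pol u = X ^ (i.val + 1) := by
      have hi := i.isLt
      rw [Fintype.sum_sum_type]
      simp only [hM', fromBlocks_apply₁₁, fromBlocks_apply₁₂, hCY, pol, Sum.elim_inl, Sum.elim_inr]
      by_cases hlt : i.val + 1 < j
      · rw [Finset.sum_eq_single (⟨i.val + 1, hlt⟩ : Fin j) (fun x _ hx => by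
          simp [Cχ, cmat, hlt, show ¬ x.val = i.val + 1 from fun e => hx (Fin.ext e)]) (by simp),
          Finset.sum_eq_zero (fun x _ => by simp [show ¬ i.val + 1 = j by omega])]
        simp [Cχ, cmat, hlt]
      · have hlast : i.val + 1 = j := by omega
        rw [Finset.sum_eq_single (⟨0, ht⟩ : Fin t) (fun x _ hx => by
          simp [show ¬ x.val = 0 from fun e => hx (Fin.ext e)]) (by simp)]
        simp only [hlast, and_self, if_true, map_one, pow_zero, one_mul]
        conv_rhs => rw [← hj]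
        conv_lhs => arg 2; rw [hχ.as_sum, hj, Finset.sum_range fun k => C (χ.coeff k) * X ^ k]
        have : ∀ x : Fin j, C (Cχ i x) * X ^ x.val = -(C (χ.coeff x.val) * (X : K[X]) ^ x.val) := fun x => by
          simp [Cχ, cmat, show ¬ i.val + 1 < j by omega]
        rw [Finset.sum_congr rfl fun x _ => this x, Finset.sum_neg_distrib, hj]
        abel
    rw [hsum]
    congr 1
    have : i.val ≠ j + t - 1 := by have := i.isLt; omega
    simp [pol, coeff_X_pow, this.symm, pow_succ']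
  · have hl := l.isLt
    by_cases hlt : l.val + 1 < t
    · have hsum : ∑ u, C (M' (Sum.inr l) u) * pol u = X ^ (l.val + 1) * χ := by
        rw [Fintype.sum_sum_type]
        simp only [hM', fromBlocks_apply₂₁, fromBlocks_apply₂₂, Matrix.add_apply, hcY, pol, Sum.elim_inl, Sum.elim_inr]
        rw [Finset.sum_eq_zero (fun x _ => by simp [c, show ¬ l.val + 1 = t by omega]),
          Finset.sum_eq_single (⟨l.val + 1, hlt⟩ : Fin t) (fun x _ hx => by
            simp [Cg, cmat, hlt, show ¬ l.val + 1 = t by omega, show ¬ x.val = l.val + 1 from fun e => hx (Fin.ext e)])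
            (by simp)]
        simp [Cg, cmat, hlt, show ¬ l.val + 1 = t by omega]
      rw [hsum]
      congr 1
      rw [show (pol (Sum.inr l)).coeff (j + t - 1) = 0 from coeff_eq_zero_of_natDegree_lt (by
        show ((X : K[X]) ^ l.val * χ).natDegree < _
        rw [hpd]; omega)]
      simp [pol, pow_succ', mul_assoc]
    · have hlast : l.val + 1 = t := by omega
      have hsum : ∑ u, C (M' (Sum.inr l) u) * pol u = X ^ t * χ - f := by
        rw [Fintype.sum_sum_type]
        simp only [hM', fromBlocks_apply₂₁, fromBlocks_apply₂₂, Matrix.add_apply, hcY, pol, Sum.elim_inl, Sum.elim_inr]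
        have hρs : ρ = ∑ x : Fin j, C (ρ.coeff x.val) * X ^ x.val := by
          conv_lhs => rw [← Polynomial.sum_monomial_eq ρ]
          rw [Polynomial.sum_over_range' ρ (fun k => monomial_zero_right k) j (by
            rcases eq_or_ne ρ 0 with h | h
            · rw [h, natDegree_zero]; exact hj0
            · exact (natDegree_lt_iff_degree_lt h).2 hρd), Finset.sum_range]
          simp [C_mul_X_pow_eq_monomial]
        have hgs : g = X ^ t + ∑ x : Fin t, C (g.coeff x.val) * X ^ x.val := by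
          conv_lhs => rw [hgm.as_sum, hgd, Finset.sum_range fun k => C (g.coeff k) * X ^ k]
        have e1 : ∑ x : Fin j, C (c l x) * X ^ x.val = -ρ := by
          conv_rhs => rw [hρs, ← Finset.sum_neg_distrib]
          simp [c, hlast]
        have e2 : ∑ x : Fin t, C ((if l.val + 1 = t ∧ x.val = 0 then a else 0) + Cg l x) * (X ^ x.val * χ) =
            (C a - (g - X ^ t)) * χ := by
          have h2 : ∀ x : Fin t, C ((if l.val + 1 = t ∧ x.val = 0 then a else 0) + Cg l x) * (X ^ x.val * χ) =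
              (if x.val = 0 then C a * χ else 0) - C (g.coeff x.val) * X ^ x.val * χ := fun x => by
            by_cases hx : x.val = 0 <;>
              simp [Cg, cmat, hlast, hx, map_add, add_mul, sub_eq_add_neg, mul_assoc]
          rw [Finset.sum_congr rfl fun x _ => h2 x, Finset.sum_sub_distrib,
            Finset.sum_eq_single (⟨0, ht⟩ : Fin t) (fun x _ hx => if_neg fun e => hx (Fin.ext e)) (by simp), if_pos rfl,
            ← Finset.sum_mul]
          conv_rhs => rw [hgs]
          ring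
        rw [e1, e2, hg]
        linear_combination -hfeq
      rw [hsum]
      congr 1
      rw [show (pol (Sum.inr l)).coeff (j + t - 1) = 1 by
        show ((X : K[X]) ^ l.val * χ).coeff (j + t - 1) = 1
        rw [coeff_X_pow_mul', if_pos (by omega), show j + t - 1 - l.val = χ.natDegree by omega, hχ.coeff_natDegree]]
      simp only [pol, Sum.elim_inr, map_one, one_mul, ← hlast, pow_succ', mul_assoc]

/-- **A cyclic commutator with a prescribed irreducible polynomial.** -/
theorem exists_head [Fintype K] {φ : K[X]} (hm : φ.Monic) (hi : Irreducible φ) (h0 : φ.coeff 0 ≠ 0) :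
    ∃ χ : K[X], χ.Monic ∧ χ.natDegree = φ.natDegree ∧ cd χ = 1 ∧ χ.coeff 0 ≠ 0 ∧
      Fac φ (cd φ) (cmat fun i : Fin φ.natDegree => χ.coeff i) := by
  classical
  obtain ⟨χ, x, y, hχ, hχd, hχ0, hx, hy, hxy⟩ := H41.Calc.exists_cyclic_comm hm h0 hi.natDegree_pos
  have hχne : χ.coeff 0 ≠ 0 := by rw [hχ0]; simp
  refine ⟨χ, hχ, hχd, by rw [cd, hχd, hχ0, ← mul_pow]; simp, hχne, ?_⟩
  haveI : Module.Finite K (AdjoinRoot χ) := (AdjoinRoot.powerBasis hχ.ne_zero).finite
  obtain ⟨E, hE⟩ := hy.unique hx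
  have hE0 : LinearMap.det (E : AdjoinRoot χ →ₗ[K] AdjoinRoot χ) ≠ 0 := (LinearEquiv.isUnit_det' E).ne_zero
  obtain ⟨z, hz, hzd⟩ := (H41.Calc.surjDet_of_mem hy (by simpa using hm) (e := 1) hm hi (by simp)
    (Nat.coprime_one_right _)) _ (inv_ne_zero hE0)
  set b := (E : AdjoinRoot χ →ₗ[K] AdjoinRoot χ) * z with hb
  have hbd : LinearMap.det b = 1 := by rw [hb, map_mul, hzd, mul_inv_cancel₀ hE0]
  have hby : b * y = x * b := by
    refine LinearMap.ext fun v => ?_
    show E (z (y v)) = x (E (z v))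
    rw [← Module.End.mul_apply z, hz, Module.End.mul_apply]
    exact hE _
  set G := LinearMap.mulLeft K (AdjoinRoot.root χ)
  have hGb : G * (b * y) = y * b := by rw [hby, ← mul_assoc, hxy]
  have hyΦ : aeval y φ = 0 := by simpa using hy.aeval_prod
  have hyd : LinearMap.det y = cd φ := by
    rw [hy.det (by simpa using hm)]; simp [cd]
  obtain ⟨e, he⟩ := H89.CN.rowEnd_rComp hχ (hχd ▸ hi.natDegree_pos)
  suffices key : Fac φ (cd φ) (cmat fun i : Fin χ.natDegree => χ.coeff i) by
    have h := key.reindex (finCongr hχd)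
    refine (congrArg (Fac φ (cd φ)) ?_).mp h
    ext i k
    simp [cmat, hχd]
  set Cm := cmat fun i : Fin χ.natDegree => χ.coeff i
  let tr : Module.End K (AdjoinRoot χ) → Matrix (Fin χ.natDegree) (Fin χ.natDegree) K :=
    fun T => (LinearMap.toMatrix' (e.toLinearMap ∘ₗ T ∘ₗ e.symm.toLinearMap))ᵀ
  have htr_mul : ∀ S T, tr (S * T) = tr T * tr S := fun S T => by
    simp only [tr, ← transpose_mul, ← LinearMap.toMatrix'_comp]
    congr 2
    refine LinearMap.ext fun v => ?_
    simp [Module.End.mul_apply]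
  have htr_det : ∀ T, (tr T).det = LinearMap.det T := fun T => by
    simp only [tr, det_transpose, LinearMap.det_toMatrix']
    exact LinearMap.det_conj T e
  have htrG : tr G = Cm := by
    have h1 : e.toLinearMap ∘ₗ G ∘ₗ e.symm.toLinearMap = rowEnd (rComp χ.natDegree χ) := by
      refine LinearMap.ext fun v => ?_
      simp only [LinearMap.comp_apply, LinearEquiv.coe_coe]
      rw [he, LinearEquiv.apply_symm_apply]
    simp only [tr, h1, rowEnd, LinearMap.toMatrix'_toLin', transpose_transpose, rComp_eq_cmat, Cm]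
  have htr1 : tr 1 = 1 := by
    simp [tr, show (1 : Module.End K (AdjoinRoot χ)) = LinearMap.id from rfl]
  have htrΦ : aeval (tr y) φ = 0 := by
    have hp : ∀ p : K[X], aeval (tr y) p = tr (aeval y p) := fun p => by
      induction p using Polynomial.induction_on with
      | C r =>
        simp only [aeval_C, Algebra.algebraMap_eq_smul_one]
        rw [← htr1]
        simp [tr, LinearMap.smul_comp, LinearMap.comp_smul]
      | add p q hp hq => simp only [map_add, hp, hq]; simp [tr, LinearMap.add_comp, LinearMap.comp_add]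
      | monomial n r ih =>
        rw [pow_succ, ← mul_assoc, map_mul (aeval (tr y)) (C r * X ^ n) X, map_mul (aeval y) (C r * X ^ n) X, aeval_X,
          aeval_X, htr_mul, ← ih]
        have hc : Commute (tr y) (aeval (tr y) (C r * X ^ n)) := by
          have := (Polynomial.commute_X (C r * X ^ n)).map (aeval (tr y)); simpa using this
        exact hc.symm.eq
    rw [hp, hyΦ]; simp [tr]
  set A := tr y with hA
  set B := tr b with hB
  have hAd : A.det = cd φ := by rw [hA, htr_det, hyd]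
  have hBd : B.det = 1 := by rw [hB, htr_det, hbd]
  have key : A * B * Cm = B * A := by
    have h := congrArg tr hGb
    rwa [htr_mul G (b * y), htr_mul b y, htr_mul y b, htrG, ← hA, ← hB] at h
  have hA0 : A.det ≠ 0 := by rw [hAd]; simp [cd, h0]
  have uA : IsUnit A.det := IsUnit.mk0 _ hA0
  have uB : IsUnit B.det := by rw [hBd]; exact isUnit_one
  refine Fac.of_sim (M' := A * Cm * A⁻¹) ⟨A, B⁻¹, hAd, by rw [det_nonsing_inv, hBd, Ring.inverse_one], htrΦ, ?_⟩
    ⟨A, uA, by rw [Matrix.mul_assoc _ A⁻¹, nonsing_inv_mul _ uA, Matrix.mul_one]⟩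
  have hAC : A * Cm = A * B⁻¹ * A⁻¹ * (B * A) := by
    rw [← key, show A * B⁻¹ * A⁻¹ * (A * B * Cm) = A * (B⁻¹ * (A⁻¹ * A) * B) * Cm by
      simp only [Matrix.mul_assoc], nonsing_inv_mul _ uA, Matrix.mul_one, nonsing_inv_mul _ uB, Matrix.mul_one]
  rw [hAC]
  calc A * B⁻¹ * A⁻¹ * (B * A) * A⁻¹ * B⁻¹ * A = A * B⁻¹ * A⁻¹ * B * (A * A⁻¹) * B⁻¹ * A := by
        simp only [Matrix.mul_assoc]
    _ = A * B⁻¹ * A⁻¹ * (B * B⁻¹) * A := by rw [mul_nonsing_inv _ uA, Matrix.mul_one]; simp only [Matrix.mul_assoc]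
    _ = A * B⁻¹ := by
      rw [mul_nonsing_inv _ uB, Matrix.mul_one, Matrix.mul_assoc (A * B⁻¹), nonsing_inv_mul _ uA, Matrix.mul_one]

end H31.Com.Uni
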