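import Cfsg.Agent.H31.Unitary.Side
import Cfsg.Agent.H31.Unitary.Head
import Cfsg.Agent.H89.CN.Chain

/-!
Good groups of blocks over four elements: witness keys, and large blocks replaced by short tails.
-/

set_option autoImplicit false
set_option maxRecDepth 100000
set_option linter.unusedSectionVars false
set_option linter.style.longLine false

namespace H31.Com.Uni

open Matrix Polynomial
open H89.CN (Sim Dec rComp)
open H31.Com

variable {K : Type*} [Field K] {a : K}

/-- The coded polynomials of a list. -/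
def cset (a : K) (cs : List (List ℕ)) : Set K[X] := {p | ∃ x ∈ cs, p = bpoly a x}

theorem cset_mono {cs cs' : List (List ℕ)} (h : ∀ x ∈ cs, x ∈ cs') : (cset a cs : Set K[X]) ⊆ cset a cs' :=
  fun _ ⟨x, hx, e⟩ => ⟨x, h x hx, e⟩

/-- The polynomials used inside tables. -/
def pool : List (List ℕ) := D4.cs.take 6

/-- The value of a code. -/
def evalC : List ℕ → ℕ → ℕ
  | [], _ => 0
  | c :: l, x => add4 c (mul4 x (evalC l x))

/-- No root. -/
def noRoot (m : List ℕ) : Bool := (List.range 4).all fun x => evalC (m ++ [1]) x % 4 != 0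

/-- No monic factor of degree one or two. -/
def irrC (h : List ℕ) : Bool :=
  noRoot h && (decide (h.length < 4) ||
    (allV 4 (h.length - 2)).all fun f => (allV 4 2).all fun g => !eqP4 (mulP4 (f ++ [1]) (g ++ [1])) (h ++ [1]))

namespace D4

/-- The heads of small degree. -/
def hcode : ℕ → List ℕ
  | 2 => [1,2]
  | 3 => [1,0,2]
  | 4 => [1,0,1,2]
  | _ => [1,0,0,0,2]

theorem hcode_ok : ([2, 3, 4, 5].all fun j => cs.contains (hcode j) && ((hcode j).length == j) &&
    ((hcode j).getD 0 0 == 1) && irrC (hcode j) &&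
    pool.all fun x => (decide (hcode j ≠ x)) || ((j == 2) && decide (x = [1,2]))) = true := by decide +kernel

end D4

section
variable [Omega a]

theorem emb_inj {x y : ℕ} (h : emb a x = emb a y) : x % 4 = y % 4 := by
  by_contra hne
  refine emb_ne_zero (a := a) (x := add4 x y) ?_ (by rw [emb_add, h]; linear_combination emb a y * omega_two a)
  have hx := Nat.mod_lt x (show 4 > 0 by norm_num)
  have hy := Nat.mod_lt y (show 4 > 0 by norm_num)
  simp only [add4, bne_iff_ne, ne_eq]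
  generalize x % 4 = x at hx hne ⊢
  generalize y % 4 = y at hy hne ⊢
  interval_cases x <;> interval_cases y <;> simp_all <;> decide

theorem eqP4_of_ofE {l m : List ℕ} (h : ofE a l = ofE a m) : eqP4 l m = true := by
  refine List.all_eq_true.2 fun k _ => beq_iff_eq.2 (emb_inj (a := a) ?_)
  rw [← coeff_ofE, ← coeff_ofE, h]

theorem eval_ofE (x : ℕ) : ∀ l : List ℕ, (ofE a l).eval (emb a x) = emb a (evalC l x)
  | [] => by simp [ofE, evalC]
  | c :: l => by simp [ofE, evalC, eval_ofE x l, emb_add, emb_mul]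

theorem exists_code4 (hK : ∀ x : K, x ^ 4 = x) {f : K[X]} (hf : f.Monic) {d : ℕ} (hd : f.natDegree = d) :
    ∃ m ∈ allV 4 d, m.length = d ∧ f = bpoly a m := by
  choose c hc hce using emb_surj (a := a) hK
  let m := List.ofFn fun i : Fin d => c (f.coeff i)
  have hlen : m.length = d := List.length_ofFn
  refine ⟨m, ?_, hlen, ?_⟩
  · have := mem_allV (q := 4) m (fun x hx => by
      obtain ⟨i, rfl⟩ := List.mem_ofFn.1 hx
      exact hc _)
    rwa [hlen] at this
  · ext k
    rw [bpoly, coeff_ofE]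
    rcases lt_trichotomy k d with hk | rfl | hk
    · rw [List.getD_append _ _ _ _ (by omega), List.getD_eq_getElem _ _ (by omega), List.getElem_ofFn, hce]
    · rw [List.getD_append_right _ _ _ _ (by omega), hlen, Nat.sub_self, ← hd]
      simpa using hf.coeff_natDegree
    · rw [List.getD_eq_default _ _ (by simp; omega), emb_zero, coeff_eq_zero_of_natDegree_lt (by omega)]

theorem no_root_of_irreducible {f : K[X]} (hi : Irreducible f) (hd : f.natDegree ≠ 1) (x : K) : f.eval x ≠ 0 := by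
  intro h
  obtain ⟨g, hg⟩ := dvd_iff_isRoot.2 (show f.IsRoot x from h)
  rcases hi.isUnit_or_isUnit hg with hu | hu
  · exact not_isUnit_X_sub_C x hu
  · rw [hg, natDegree_mul (X_sub_C_ne_zero x) hu.ne_zero, natDegree_X_sub_C, natDegree_eq_zero_of_isUnit hu] at hd
    exact hd rfl

theorem irreducible_of_irrC (hK : ∀ x : K, x ^ 4 = x) {h : List ℕ} (h2 : 2 ≤ h.length) (h5 : h.length ≤ 5)
    (hc : irrC h = true) : Irreducible (bpoly a h) := by
  simp only [irrC, Bool.and_eq_true] at hc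
  refine (bpoly_monic h).irreducible_iff_natDegree'.2 ⟨fun e => ?_, fun f g hf hg e hmem => ?_⟩
  · have := bpoly_natDegree (a := a) h
    rw [e, natDegree_one] at this
    omega
  rw [bpoly_natDegree, Finset.mem_Ioc] at hmem
  have hfd : f.natDegree = h.length - g.natDegree := by
    rw [← bpoly_natDegree (a := a) h, ← e, hf.natDegree_mul hg]; omega
  obtain ⟨f', hf', -, rfl⟩ := exists_code4 (a := a) hK hf hfd
  rcases (by omega : g.natDegree = 1 ∨ g.natDegree = 2) with hg1 | hg1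
  · obtain ⟨x, rfl⟩ : ∃ x, g = X - C x := ⟨-g.coeff 0, by
      conv_lhs => rw [hg.as_sum, hg1]
      simp⟩
    obtain ⟨n, hn, rfl⟩ := emb_surj (a := a) hK x
    have h0 : (bpoly a h).eval (emb a n) = 0 := by rw [← e]; simp
    rw [bpoly, eval_ofE] at h0
    have := List.all_eq_true.1 hc.1 n (List.mem_range.2 hn)
    exact emb_ne_zero this h0
  · obtain ⟨g', hg', -, rfl⟩ := exists_code4 (a := a) hK hg hg1
    rw [hg1] at hf'
    have h2' := hc.2
    rw [Bool.or_eq_true] at h2'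
    have := List.all_eq_true.1 (List.all_eq_true.1 (h2'.resolve_left (by simp; omega)) f' hf') g' hg'
    rw [bpoly, bpoly, bpoly, ← ofE_mulP] at e
    rw [eqP4_of_ofE e] at this
    exact absurd this (by simp)

end

/-- The chosen large polynomials. -/
def Chosen4 (σ : K →+* K) (φ : ℕ → K[X]) : Prop :=
  ∀ J, 6 ≤ J → Irreducible (φ J) ∧ (φ J).Monic ∧ (φ J).natDegree = J ∧ cd (φ J) = 1 ∧ IsCoprime (φ J) (trev σ (φ J))

theorem exists_chosen4 [Fintype K] {σ : K →+* K} (h4 : Fintype.card K = 4) (hσ : ∀ x, σ x = x ^ 2) :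
    ∃ φ, Chosen4 σ φ := by
  have : ∀ J : ℕ, ∃ f : K[X],
      6 ≤ J → Irreducible f ∧ f.Monic ∧ f.natDegree = J ∧ cd f = 1 ∧ IsCoprime f (trev σ f) := by
    intro J
    by_cases hJ : 6 ≤ J
    · obtain ⟨f, hf⟩ := exists_big (σ := σ) h4 hσ (J := J) (by omega)
      exact ⟨f, fun _ => hf⟩
    · exact ⟨0, fun h' => absurd h' hJ⟩
  choose φ hφ using this
  exact ⟨φ, hφ⟩

/-- The side polynomials. -/
def S4 (a : K) (φ : ℕ → K[X]) : Set K[X] := cset a D4.cs ∪ φ '' Set.Ici 6

/-- A group of blocks which is a commutator with side polynomials. -/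
def Good (a : K) (φ : ℕ → K[X]) (l : List K[X]) : Prop := FG (S4 a φ) 1 l

variable {φ : ℕ → K[X]}

theorem Good.append {l l' : List K[X]} (h : Good a φ l) (h' : Good a φ l') : Good a φ (l ++ l') := by
  have := FG.append h h'
  rwa [one_mul] at this

theorem Good.perm {l l' : List K[X]} (h : Good a φ l) (hp : l.Perm l') : Good a φ l' := FG.perm h hp

theorem Good.nil : Good a φ ([] : List K[X]) := FG.nil _

theorem pool_mem {x : List ℕ} (h : x ∈ pool) : x ∈ D4.cs := List.mem_of_mem_take h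

variable [Omega a]

/-- A key of a table. -/
theorem fg_key {t : List (List (List ℕ) × List (List ℕ) × Wit)} (h : t.all (fun e => chk4 false e.1 e.2.1 e.2.2) = true)
    {ms : List (List ℕ)} {T : List (List ℕ)} (hm : t.any (fun e => e.1 == ms && e.2.1.all fun x => T.contains x) = true) :
    FG (cset a T) 1 (bpolys a ms) := by
  obtain ⟨e, he, hk⟩ := List.any_eq_true.1 hm
  simp only [Bool.and_eq_true, beq_iff_eq, List.all_eq_true, List.contains_iff_mem] at hk
  obtain ⟨rfl, hT⟩ := hk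
  intro n A hA
  exact ⟨(bpolys a e.2.1).prod, Submonoid.list_prod_mem _ fun p hp => by
      obtain ⟨x, hx, rfl⟩ := List.mem_map.1 hp
      exact Submonoid.subset_closure ⟨x, hT x hx, rfl⟩,
    (fac_of_chk4 (List.all_eq_true.1 h _ he)).of_simTo (simTo_of_dec4 _ A hA)⟩

theorem FG.good {T : List (List ℕ)} {l : List K[X]} (h : FG (cset a T) 1 l) (hT : ∀ x ∈ T, x ∈ D4.cs) :
    Good a φ l :=
  FG.mono h fun _ hp => Or.inl (cset_mono hT hp)

theorem good_key {t : List (List (List ℕ) × List (List ℕ) × Wit)} (h : t.all (fun e => chk4 false e.1 e.2.1 e.2.2) = true)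
    {ms : List (List ℕ)} (hm : t.any (fun e => e.1 == ms && e.2.1.all fun x => pool.contains x) = true) :
    Good a φ (bpolys a ms) :=
  FG.good (fg_key h hm) fun _ hx => pool_mem hx

variable [Fintype K] {σ : K →+* K}

theorem trev_ne_zero {p : K[X]} (hp : p ≠ 0) : trev σ p ≠ 0 := by
  rw [trev, Ne, reverse_eq_zero, Polynomial.map_eq_zero]
  exact hp

theorem trev_degree (p : K[X]) : (trev σ p).natDegree ≤ p.natDegree :=
  (reverse_natDegree_le _).trans natDegree_map_le

theorem tfree_S4 [Invol σ] (hσ : ∀ x, σ x = x ^ 2) (hφ : Chosen4 σ φ) : TFree σ (S4 a φ) := by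
  have big : ∀ J, 6 ≤ J → ∀ t : K[X], t.coeff 0 ≠ 0 → t.natDegree < J →
      IsCoprime (φ J) (trev σ t) ∧ IsCoprime t (trev σ (φ J)) := fun J hJ t ht0 htd => by
    obtain ⟨h1, -, h2, -, -⟩ := hφ J hJ
    have hc : IsCoprime (φ J) (trev σ t) := coprime_of_degree_lt h1
      (trev_ne_zero fun e => ht0 (by rw [e, coeff_zero]))
      (lt_of_le_of_lt (trev_degree t) (h2.symm ▸ htd))
    exact ⟨hc, trev_symm (coeff_zero_ne_of_irreducible h1 (by omega)) ht0 hc⟩
  rintro p (⟨x, hx, rfl⟩ | ⟨J, hJ, rfl⟩) t (⟨y, hy, rfl⟩ | ⟨I, hI, rfl⟩)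
  · exact cs_twist hσ hx hy
  · exact (big I hI _ (cs_prop hx).2.2.2.2 (by
      rw [bpoly_natDegree]; exact lt_of_le_of_lt (cs_prop (a := a) hx).2.1 (lt_of_lt_of_le (by norm_num) hI))).2
  · exact (big J hJ _ (cs_prop hy).2.2.2.2 (by
      rw [bpoly_natDegree]; exact lt_of_le_of_lt (cs_prop (a := a) hy).2.1 (lt_of_lt_of_le (by norm_num) hJ))).1
  · obtain ⟨i1, -, i2, -, i3⟩ := hφ I hI
    obtain ⟨j1, -, j2, -, -⟩ := hφ J hJ
    rcases lt_trichotomy I J with h | rfl | h
    · exact (big J hJ (φ I) (coeff_zero_ne_of_irreducible i1 (by simp at hI; omega)) (by omega)).1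
    · exact i3
    · exact (big I hI (φ J) (coeff_zero_ne_of_irreducible j1 (by simp at hJ; omega)) (by omega)).2

theorem eval_S4 (hφ : Chosen4 σ φ) {Φ : K[X]} (h : Φ ∈ Submonoid.closure (S4 a φ)) : Φ.eval 1 ≠ 0 := by
  refine eval_closure (fun p hp => ?_) h
  rcases hp with ⟨x, hx, rfl⟩ | ⟨J, hJ, rfl⟩
  · exact (cs_prop hx).2.2.1
  · obtain ⟨h1, -, h2, -, -⟩ := hφ J hJ
    exact no_root_of_irreducible h1 (by rw [h2]; simp at hJ; omega) 1

/-- The head of a given degree. -/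
noncomputable def head (a : K) (φ : ℕ → K[X]) (j : ℕ) : K[X] := if j ≤ 5 then bpoly a (D4.hcode j) else φ j

theorem head_spec (hK : ∀ x : K, x ^ 4 = x) (hφ : Chosen4 σ φ) {j : ℕ} (hj : 2 ≤ j) :
    (head a φ j).Monic ∧ Irreducible (head a φ j) ∧ (head a φ j).natDegree = j ∧ cd (head a φ j) = 1 ∧
      (head a φ j).coeff 0 ≠ 0 ∧ head a φ j ∈ S4 a φ ∧
      ∀ x ∈ pool, (j = 2 → x ≠ [1,2]) → IsCoprime (head a φ j) (bpoly a x) := by
  by_cases h5 : j ≤ 5
  · have h := List.all_eq_true.1 D4.hcode_ok j (by simp; omega)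
    simp only [Bool.and_eq_true, List.contains_iff_mem, beq_iff_eq, List.all_eq_true, Bool.or_eq_true,
      decide_eq_true_eq] at h
    obtain ⟨⟨⟨⟨hmem, hlen⟩, hhd⟩, hirr⟩, hpool⟩ := h
    simp only [head, if_pos h5]
    refine ⟨bpoly_monic _, irreducible_of_irrC hK (by omega) (by omega) hirr, by rw [bpoly_natDegree, hlen],
      by rw [cd_bpoly (by omega), hhd, emb_one], (cs_prop hmem).2.2.2.2, Or.inl ⟨_, hmem, rfl⟩, fun x hx h2 => ?_⟩
    refine cs_pair hmem (pool_mem hx) ?_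
    rcases hpool x hx with h | ⟨e, e'⟩
    · exact h
    · exact absurd e' (h2 e)
  · obtain ⟨h1, h2, h3, h4, -⟩ := hφ j (by omega)
    simp only [head, if_neg h5]
    refine ⟨h2, h1, h3, h4, coeff_zero_ne_of_irreducible h1 (by omega), Or.inr ⟨j, Set.mem_Ici.2 (by omega), rfl⟩,
      fun x hx _ => coprime_of_degree_lt h1 (bpoly_monic x).ne_zero ?_⟩
    rw [h3, bpoly_natDegree]
    have := (cs_prop (a := a) (pool_mem hx)).2.1
    omega

theorem dec_cons {n : ℕ} {A : Matrix (Fin n) (Fin n) K} {g : K[X]} {l : List K[X]} (hg : g.Monic) (hd : 0 < g.natDegree)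
    (hA : Dec A l) :
    Dec (Matrix.reindex (finSumFinEquiv (m := g.natDegree) (n := n)) finSumFinEquiv
      (fromBlocks (rComp g.natDegree g) 0 0 A)) (g :: l) :=
  ⟨hg, hd, n, finSumFinEquiv, A, Sim.refl _, hA⟩

theorem RedK.reindex {ι μ μ' κ κ' : Type*} [Fintype ι] [DecidableEq ι] [Fintype μ] [DecidableEq μ] [Fintype μ']
    [DecidableEq μ'] [Fintype κ] [DecidableEq κ] [Fintype κ'] [DecidableEq κ'] {M : Matrix ι ι K} {C : Matrix μ μ K}
    {N : Matrix κ κ K} (h : RedK M C N) (b : μ ≃ μ') (c : κ ≃ κ') :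
    RedK M (Matrix.reindex b b C) (Matrix.reindex c c N) := by
  obtain ⟨Y, d, e, hs⟩ := h
  refine ⟨Matrix.reindex b c Y, Matrix.reindex c b d, (b.sumCongr c).symm.trans e, hs.trans ?_⟩
  refine (congrArg (Sim _) ?_).mpr (Sim.refl _)
  ext x y
  obtain ⟨u, rfl⟩ := e.surjective x
  obtain ⟨v, rfl⟩ := e.surjective y
  rcases u with u | u <;> rcases v with v | v <;> simp [Matrix.mul_apply] <;>
    exact (Equiv.sum_comp b.symm _)

/-- Large blocks lose their heads together. -/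
theorem red_items [DecidableEq K] (hK : ∀ x : K, x ^ 4 = x) (hφ : Chosen4 σ φ) {T : List (List ℕ)}
    (hT : ∀ x ∈ T, x ∈ pool) :
    ∀ (fs : List (K[X] × ℕ)), (∀ p ∈ fs, p.1.Monic ∧ 0 < p.2 ∧ p.2 + 2 ≤ p.1.natDegree ∧
      (p.1.natDegree = p.2 + 2 → [1,2] ∉ T) ∧ p.1.coeff 0 ≠ 0) →
      ∀ {rest : List K[X]} {n : ℕ} {A : Matrix (Fin n) (Fin n) K}, Dec A (fs.map Prod.fst ++ rest) →
      ∃ gs : List K[X], List.Forall₂ (fun p g => g.Monic ∧ g.natDegree = p.2 ∧ cd g = cd p.1) fs gs ∧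
        ∃ (μ N : ℕ) (C : Matrix (Fin μ) (Fin μ) K) (A' : Matrix (Fin N) (Fin N) K) (Ψ : K[X]),
          Ψ ∈ Submonoid.closure (S4 a φ) ∧ (∀ x ∈ T, IsCoprime Ψ (bpoly a x)) ∧ Fac Ψ 1 C ∧ RedK A C A' ∧
          Dec A' (gs ++ rest)
  | [], _, rest, n, A, hA => ⟨[], List.Forall₂.nil, 0, n, 0, A, 1, one_mem _, fun _ _ => isCoprime_one_left,
      ⟨0, 1, det_fin_zero, det_one, Subsingleton.elim _ _, Subsingleton.elim _ _⟩, RedK.zero A, hA⟩
  | (f, t) :: fs, h, rest, n, A, hA => by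
    obtain ⟨hf, ht, htd, hP, hf0⟩ := h (f, t) (List.mem_cons_self ..)
    obtain ⟨n₁, n₂, A₁, A₂, hs, d₁, d₂⟩ := dec_append (l₁ := [f]) (l₂ := fs.map Prod.fst ++ rest) hA
    obtain ⟨gs, hgs, μ, N, C, A', Ψ, hΨ, hΨc, hC, hr, hA'⟩ :=
      red_items hK hφ hT fs (fun p hp => h p (List.mem_cons_of_mem _ hp)) d₂
    obtain ⟨hφm, hφi, hφd, hφc, hφ0, hφS, hφp⟩ := head_spec (a := a) hK hφ (j := f.natDegree - t) (by simp only at htd; omega)
    obtain ⟨χ, hχm, hχd, hχc, hχ0, hCχ⟩ := exists_head hφm hφi hφ0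
    rw [hφd] at hχd
    rw [hφc] at hCχ
    obtain ⟨g, hgm, hgd, hgc, hr₁⟩ := head_red (f := f) (χ := χ) (j := f.natDegree - t) (t := t) hf hχm hχd
      (by simp only at htd ⊢; omega) (by simp only at htd; omega) ht hχ0
    subst hgd
    have hr₂ : RedK A₁ (cmat fun i : Fin (f.natDegree - g.natDegree) => χ.coeff i) (rComp g.natDegree g) := by
      refine hr₁.of_simTo ((dec_single d₁).trans ?_)
      simp only at htd
      refine ⟨finCongr (by omega), (congrArg (Sim _) ?_).mpr (Sim.refl _)⟩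
      ext i k
      simp [cmat, show f.natDegree - g.natDegree + g.natDegree = f.natDegree by omega]
    refine ⟨g :: gs, List.Forall₂.cons ⟨hgm, rfl, by rw [← hgc, hχc, mul_one]⟩ hgs, _, _, _, _,
      head a φ (f.natDegree - g.natDegree) * Ψ, mul_mem (Submonoid.subset_closure hφS) hΨ,
      fun x hx => (hφp x (hT x hx) fun e e' => hP (by simp only at htd ⊢; omega) (e' ▸ hx)).mul_left (hΨc x hx),
      ?_, ((hr₂.sum hr).of_simTo hs).reindex finSumFinEquiv finSumFinEquiv, dec_cons hgm ht hA'⟩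
    have h1 : Fac (head a φ (f.natDegree - g.natDegree)) 1 (cmat fun i : Fin (f.natDegree - g.natDegree) => χ.coeff i) := by
      have h2 := hCχ.reindex (finCongr hφd)
      refine (congrArg (Fac _ _) ?_).mp h2
      ext i k
      simp [cmat, hφd]
    have := (h1.sum hC).reindex finSumFinEquiv
    rwa [one_mul] at this

/-- **Large blocks act as their tails.** -/
theorem good_red (hK : ∀ x : K, x ^ 4 = x) (hφ : Chosen4 σ φ) {T : List (List ℕ)} (hT : ∀ x ∈ T, x ∈ pool)
    (fs : List (K[X] × ℕ)) (h : ∀ p ∈ fs, p.1.Monic ∧ 0 < p.2 ∧ p.2 + 2 ≤ p.1.natDegree ∧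
      (p.1.natDegree = p.2 + 2 → [1,2] ∉ T) ∧ p.1.coeff 0 ≠ 0) {rest : List K[X]}
    (hkey : ∀ gs : List K[X], List.Forall₂ (fun p g => g.Monic ∧ g.natDegree = p.2 ∧ cd g = cd p.1) fs gs →
      FG (cset a T) 1 (gs ++ rest)) :
    Good a φ (fs.map Prod.fst ++ rest) := by
  classical
  intro n A hA
  obtain ⟨gs, hgs, μ, N, C, A', Ψ, hΨ, hΨc, hC, hr, hA'⟩ := red_items (a := a) hK hφ hT fs h hA
  obtain ⟨Φ, hΦ, hF⟩ := hkey gs hgs N A' hA'
  have hcop : IsCoprime Ψ Φ := by
    clear hF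
    induction hΦ using Submonoid.closure_induction with
    | mem p hp => obtain ⟨x, hx, rfl⟩ := hp; exact hΨc x hx
    | one => exact isCoprime_one_right
    | mul u v _ _ hu hv => exact hu.mul_right hv
  refine ⟨Ψ * Φ, mul_mem hΨ (Submonoid.closure_mono ?_ hΦ), ?_⟩
  · exact fun _ hp => Or.inl (cset_mono (a := a) (fun x hx => pool_mem (hT x hx)) hp)
  · have := hr.fac hcop one_ne_zero one_ne_zero hC hF
    rwa [one_mul] at this

end H31.Com.Uni
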