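import Cfsg.Agent.H31.Unitary.Base

/-!
Groups with quadratic or cubic blocks over four elements.
-/

set_option autoImplicit false
set_option maxRecDepth 100000
set_option linter.unusedSectionVars false
set_option linter.style.longLine false

namespace H31.Com.Uni

open Matrix Polynomial
open H89.CN (Sim Dec rComp)
open H31.Com

/-- A table has the key in some order. -/
def hasP (t : List (List (List ℕ) × List (List ℕ) × Wit)) (ms : List (List ℕ)) : Bool :=
  t.any fun e => e.1.isPerm ms && e.2.1.all fun x => pool.contains x

variable {K : Type*} [Field K] [Fintype K] {a : K} [Omega a] {σ : K →+* K} {φ : ℕ → K[X]}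

theorem fg_keyP {t : List (List (List ℕ) × List (List ℕ) × Wit)} (h : t.all (fun e => chk4 false e.1 e.2.1 e.2.2) = true)
    {ms : List (List ℕ)} (hm : hasP t ms = true) : FG (cset a pool) 1 (bpolys a ms) := by
  obtain ⟨e, he, hk⟩ := List.any_eq_true.1 hm
  simp only [Bool.and_eq_true, List.isPerm_iff] at hk
  exact (fg_key (a := a) h (ms := e.1) (T := pool) (List.any_eq_true.2 ⟨e, he, by
    simpa using hk.2⟩)).perm (hk.1.map _)

variable (hK : ∀ x : K, x ^ 4 = x) (hφ : Chosen4 σ φ)
include hK hφ

/-- Items with fixed blocks. -/
theorem good_with {t : List (List (List ℕ) × List (List ℕ) × Wit)} (ht : t.all (fun e => chk4 false e.1 e.2.1 e.2.2) = true)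
    {fs : List K[X]} {ns : List ℕ} (h : List.Forall₂ (fun f n => Item a n f) fs ns) {ms : List (List ℕ)}
    (hm : hasP t (ns.map ([·]) ++ ms) = true) : Good a φ (bpolys a ms ++ fs) := by
  have := good_aux hK hφ (fun _ hx => hx) fs ns h [] [] [] ms (by simp) List.Forall₂.nil fun gs hgs => by
    cases hgs
    simpa using fg_keyP ht hm
  exact this.perm (by simpa using List.perm_append_comm)

omit hK hφ in
theorem item_bpoly {n : ℕ} (hn : (n % 4 != 0) = true) : Item a n (bpoly a [n]) :=
  ⟨bpoly_monic _, by rw [cd_bpoly (by simp)]; simp, by rw [bpoly, coeff_ofE]; simpa using emb_ne_zero (a := a) hn,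
    Or.inl (by rw [bpoly_natDegree]; simp)⟩

omit hK hφ in
theorem item_mem_replicate {n : ℕ} {us : List K[X]} (h : us = List.replicate us.length (bpoly a [n])) (hne : us ≠ []) :
    bpoly a [n] ∈ us := by
  obtain ⟨x, r, rfl⟩ := List.exists_cons_of_ne_nil hne
  have := (List.eq_replicate_iff.1 h).2 x (by simp)
  simp [this]

/-- The quadratic or cubic block. -/
structure FKeys (t : List (List (List ℕ) × List (List ℕ) × Wit)) (m : List ℕ) (u v : ℕ) : Prop where
  ok : t.all (fun e => chk4 false e.1 e.2.1 e.2.2) = true
  fv : hasP t [[v], m] = true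
  fuu : hasP t [[u], [u], m] = true
  ffu : hasP t [[u], m, m] = true
  fff : hasP t [m, m, m] = true

omit hφ in
theorem fff_good {t : List (List (List ℕ) × List (List ℕ) × Wit)} {m : List ℕ} {u v : ℕ} (hF : FKeys t m u v) :
    ∀ s, Good a φ (List.replicate (3 * s) (bpoly a m))
  | 0 => Good.nil
  | s + 1 => by
    have h1 : Good a φ (bpolys a [m, m, m]) := FG.good (fg_keyP hF.ok hF.fff) fun _ hx => pool_mem hx
    refine (h1.append (fff_good hF s)).perm (List.Perm.of_eq ?_)
    rw [show 3 * (s + 1) = 3 + 3 * s by omega, List.replicate_add]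
    rfl

theorem fv_good {t : List (List (List ℕ) × List (List ℕ) × Wit)} {m : List ℕ} {u v : ℕ} (hF : FKeys t m u v) :
    ∀ {vs : List K[X]}, (∀ f ∈ vs, Item a v f) → Good a φ (List.replicate vs.length (bpoly a m) ++ vs)
  | [], _ => Good.nil
  | y :: vs, h => by
    have h1 : Good a φ (bpolys a [m] ++ [y]) :=
      good_with hK hφ hF.ok (List.Forall₂.cons (h y (by simp)) List.Forall₂.nil) (by simpa using hF.fv)
    refine (h1.append (fv_good hF (vs := vs) fun z hz => h z (List.mem_cons_of_mem _ hz))).perm (perm_of_mset ?_)
    simp only [List.length_cons, List.replicate_succ, bpolys, List.map_cons, List.map_nil, ← Multiset.coe_add,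
      ← Multiset.cons_coe, ← Multiset.singleton_add, Multiset.coe_nil, add_zero]
    abel

/-- **A quadratic or cubic block of determinant not one.** -/
theorem fcase {t : List (List (List ℕ) × List (List ℕ) × Wit)} {m : List ℕ} {u v : ℕ}
    (huv : (u = 2 ∧ v = 3) ∨ (u = 3 ∧ v = 2)) (hF : FKeys t m u v) {G0 os us vs : List K[X]} (hG0 : Good a φ G0)
    (ho : ∀ f ∈ os, Item a 1 f) (hu : ∀ f ∈ us, Item a u f) (hv : ∀ f ∈ vs, Item a v f) {k : ℕ} (hk : 0 < k)
    (hmod : (k + us.length) % 3 = vs.length % 3)
    (hl1 : bpoly a [1] ∈ os → hasP t [[v], [1], m] = true ∧ hasP t [[u], [u], [1], m] = true ∧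
      hasP t [[u], [1], m, m] = true ∧ hasP t [[1], m, m, m] = true)
    (hlu : bpoly a [u] ∈ us → hasP t [[u], [u], [u], [u], [u], m] = true)
    (hlv : bpoly a [v] ∈ vs → hasP t [[v], [v], [v], [v], m] = true) :
    Good a φ (G0 ++ List.replicate k (bpoly a m) ++ os ++ us ++ vs) := by
  have hu0 : (u % 4 != 0) = true ∧ (v % 4 != 0) = true := by rcases huv with ⟨rfl, rfl⟩ | ⟨rfl, rfl⟩ <;> decide
  have iu := item_bpoly (a := a) hu0.1
  have iv := item_bpoly (a := a) hu0.2
  have i1 := item_bpoly (a := a) (n := 1) (by decide)
  set F := bpoly a m with hFdef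
  by_cases hck : k ≤ vs.length
  · obtain ⟨vA, vB, rfl, hA⟩ : ∃ vA vB, vs = vA ++ vB ∧ vA.length = k :=
      ⟨vs.take k, vs.drop k, (List.take_append_drop _ _).symm, by rw [List.length_take]; omega⟩
    simp only [List.forall_mem_append] at hv
    simp only [List.length_append, hA] at hmod
    obtain ⟨y, vA', rfl⟩ := List.exists_cons_of_ne_nil (l := vA) (by intro e; simp [e] at hA; omega)
    have hy := hv.1 y (by simp)
    have hv' : ∀ f ∈ vA', Item a v f := fun z hz => hv.1 z (List.mem_cons_of_mem _ hz)
    have hrest := fv_good hK hφ hF (vs := vA') hv'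
    have hG := hG0.append (fv_good hK hφ hF (vs := y :: vA') hv.1)
    have a1 : bpoly a [1] ∈ os → Good a φ ((G0 ++ (List.replicate (y :: vA').length F ++ y :: vA')) ++ [bpoly a [1]]) := by
      intro h
      have g1 : Good a φ (bpolys a [m] ++ [y, bpoly a [1]]) :=
        good_with hK hφ hF.ok (List.Forall₂.cons hy (List.Forall₂.cons i1 List.Forall₂.nil)) (by simpa using (hl1 h).1)
      refine ((hG0.append g1).append hrest).perm (perm_of_mset ?_)
      simp only [hFdef, List.length_cons, List.replicate_succ, bpolys, List.map_cons, List.map_nil, ← Multiset.coe_add,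
        ← Multiset.cons_coe, ← Multiset.singleton_add, Multiset.coe_nil, add_zero]
      abel
    rcases le_total vB.length us.length with hle | hle
    · have := base hK hφ huv hG ho hu hv.2 hle (by omega) (fun e _ _ => a1 (by rw [e]; simp)) fun _ _ e hne => by
        have g1 : Good a φ (bpolys a [m] ++ [bpoly a [u], bpoly a [u]]) :=
          good_with hK hφ hF.ok (List.Forall₂.cons iu (List.Forall₂.cons iu List.Forall₂.nil)) (by simpa using hF.fuu)
        have g2 : Good a φ ([bpoly a [u]] ++ [y]) :=
          good_pairs hK hφ huv (by simp [iu]) (by simp [hy]) (by simp)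
        refine (((hG0.append g1).append g2).append hrest).perm (perm_of_mset ?_)
        simp only [hFdef, List.length_cons, List.replicate_succ, bpolys, List.map_cons, List.map_nil, ← Multiset.coe_add,
          ← Multiset.cons_coe, ← Multiset.singleton_add, Multiset.coe_nil, add_zero]
        abel
      refine this.perm (perm_of_mset ?_)
      simp only [← hA, ← Multiset.coe_add]
      abel
    · have := base hK hφ (u := v) (v := u) (by omega) hG ho hv.2 hu hle (by omega) (fun e _ _ => a1 (by rw [e]; simp))
        fun _ _ e hne => by
        have g1 : Good a φ (bpolys a [m] ++ [y, bpoly a [v], bpoly a [v], bpoly a [v]]) :=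
          good_with hK hφ hF.ok (List.Forall₂.cons hy (List.Forall₂.cons iv (List.Forall₂.cons iv
            (List.Forall₂.cons iv List.Forall₂.nil))))
            (by simpa using hlv (List.mem_append_right _ (item_mem_replicate e hne)))
        refine ((hG0.append g1).append hrest).perm (perm_of_mset ?_)
        simp only [hFdef, List.length_cons, List.replicate_succ, bpolys, List.map_cons, List.map_nil, ← Multiset.coe_add,
          ← Multiset.cons_coe, ← Multiset.singleton_add, Multiset.coe_nil, add_zero]
        abel
      refine this.perm (perm_of_mset ?_)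
      simp only [← hA, ← Multiset.coe_add]
      abel
  obtain ⟨r, hr, rfl⟩ : ∃ r, 0 < r ∧ k = vs.length + r := ⟨k - vs.length, by omega, by omega⟩
  obtain ⟨s, t', ht', rfl⟩ : ∃ s t', t' < 3 ∧ r = 3 * s + t' := ⟨r / 3, r % 3, by omega, by omega⟩
  have hR := hG0.append (fv_good hK hφ hF hv)
  rcases (by omega : t' = 0 ∨ t' = 1 ∨ t' = 2) with rfl | rfl | rfl
  · obtain ⟨s, rfl⟩ : ∃ s', s = s' + 1 := ⟨s - 1, by omega⟩
    have hR' := hR.append (fff_good hK hF s)
    have gH : Good a φ (bpolys a [m, m, m]) := FG.good (fg_keyP hF.ok hF.fff) fun _ hx => pool_mem hx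
    have := base hK hφ huv (hR'.append gH) ho hu (vs := []) (by simp) (by simp) (by simp only [List.length_nil]; omega)
      (fun e _ _ => by
        have g1 : Good a φ (bpolys a [m, m, m] ++ [bpoly a [1]]) :=
          good_with hK hφ hF.ok (List.Forall₂.cons i1 List.Forall₂.nil) (by simpa using (hl1 (by rw [e]; simp)).2.2.2)
        exact (hR'.append g1).perm (List.Perm.of_eq (by simp)))
      fun _ _ e hne => by
        have g1 : Good a φ (bpolys a [m, m] ++ [bpoly a [u]]) :=
          good_with hK hφ hF.ok (List.Forall₂.cons iu List.Forall₂.nil) (by simpa using hF.ffu)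
        have g2 : Good a φ (bpolys a [m] ++ [bpoly a [u], bpoly a [u]]) :=
          good_with hK hφ hF.ok (List.Forall₂.cons iu (List.Forall₂.cons iu List.Forall₂.nil)) (by simpa using hF.fuu)
        refine ((hR'.append g1).append g2).perm (perm_of_mset ?_)
        simp only [hFdef, bpolys, List.map_cons, List.map_nil, ← Multiset.coe_add, ← Multiset.cons_coe,
          ← Multiset.singleton_add, Multiset.coe_nil, add_zero]
        abel
    refine this.perm (perm_of_mset ?_)
    rw [show vs.length + (3 * (s + 1) + 0) = (vs.length + 3 * s) + 3 by omega, List.replicate_add, List.replicate_add]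
    simp only [hFdef, bpolys, List.map_cons, List.map_nil, ← Multiset.coe_add, ← Multiset.cons_coe,
      ← Multiset.singleton_add, Multiset.coe_nil, add_zero, List.replicate_succ, List.replicate_zero]
    abel
  · obtain ⟨x, y, us, rfl⟩ : ∃ x y us', us = x :: y :: us' := by
      match us, hmod with
      | [], h => simp at h; omega
      | [_], h => simp at h; omega
      | x :: y :: r, _ => exact ⟨x, y, r, rfl⟩
    simp only [List.length_cons] at hmod
    have hx := hu x (by simp)
    have hy := hu y (by simp)
    have hR' := hR.append (fff_good hK hF s)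
    have gH : Good a φ (bpolys a [m] ++ [x, y]) :=
      good_with hK hφ hF.ok (List.Forall₂.cons hx (List.Forall₂.cons hy List.Forall₂.nil)) (by simpa using hF.fuu)
    have := base hK hφ huv (hR'.append gH) ho (us := us) (fun z hz => hu z (by simp [hz])) (vs := []) (by simp) (by simp)
      (by simp only [List.length_nil]; omega)
      (fun e _ _ => by
        have g1 : Good a φ (bpolys a [m] ++ [x, y, bpoly a [1]]) :=
          good_with hK hφ hF.ok (List.Forall₂.cons hx (List.Forall₂.cons hy (List.Forall₂.cons i1 List.Forall₂.nil)))
            (by simpa using (hl1 (by rw [e]; simp)).2.1)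
        exact (hR'.append g1).perm (List.Perm.of_eq (by simp)))
      fun _ _ e hne => by
        have g1 : Good a φ (bpolys a [m] ++ [x, y, bpoly a [u], bpoly a [u], bpoly a [u]]) :=
          good_with hK hφ hF.ok (List.Forall₂.cons hx (List.Forall₂.cons hy (List.Forall₂.cons iu (List.Forall₂.cons iu
            (List.Forall₂.cons iu List.Forall₂.nil)))))
            (by simpa using hlu (List.mem_cons_of_mem _ (List.mem_cons_of_mem _ (item_mem_replicate e hne))))
        exact (hR'.append g1).perm (List.Perm.of_eq (by simp [bpolys]))
    refine this.perm (perm_of_mset ?_)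
    rw [show vs.length + (3 * s + 1) = (vs.length + 3 * s) + 1 by omega, List.replicate_add, List.replicate_add]
    simp only [hFdef, bpolys, List.map_cons, List.map_nil, ← Multiset.coe_add, ← Multiset.cons_coe,
      ← Multiset.singleton_add, Multiset.coe_nil, add_zero, List.replicate_succ, List.replicate_zero]
    abel
  · obtain ⟨x, us, rfl⟩ : ∃ x us', us = x :: us' := List.exists_cons_of_ne_nil (by intro e; simp [e] at hmod; omega)
    simp only [List.length_cons] at hmod
    have hx := hu x (by simp)
    have hR' := hR.append (fff_good hK hF s)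
    have gH : Good a φ (bpolys a [m, m] ++ [x]) :=
      good_with hK hφ hF.ok (List.Forall₂.cons hx List.Forall₂.nil) (by simpa using hF.ffu)
    have := base hK hφ huv (hR'.append gH) ho (us := us) (fun z hz => hu z (by simp [hz])) (vs := []) (by simp) (by simp)
      (by simp only [List.length_nil]; omega)
      (fun e _ _ => by
        have g1 : Good a φ (bpolys a [m, m] ++ [x, bpoly a [1]]) :=
          good_with hK hφ hF.ok (List.Forall₂.cons hx (List.Forall₂.cons i1 List.Forall₂.nil))
            (by simpa using (hl1 (by rw [e]; simp)).2.2.1)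
        exact (hR'.append g1).perm (List.Perm.of_eq (by simp)))
      fun _ _ e hne => by
        have g1 : Good a φ (bpolys a [m] ++ [x, bpoly a [u]]) :=
          good_with hK hφ hF.ok (List.Forall₂.cons hx (List.Forall₂.cons iu List.Forall₂.nil)) (by simpa using hF.fuu)
        have g2 : Good a φ (bpolys a [m] ++ [bpoly a [u], bpoly a [u]]) :=
          good_with hK hφ hF.ok (List.Forall₂.cons iu (List.Forall₂.cons iu List.Forall₂.nil)) (by simpa using hF.fuu)
        refine ((hR'.append g1).append g2).perm (perm_of_mset ?_)
        simp only [hFdef, bpolys, List.map_cons, List.map_nil, ← Multiset.coe_add, ← Multiset.cons_coe,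
          ← Multiset.singleton_add, Multiset.coe_nil, add_zero]
        abel
    refine this.perm (perm_of_mset ?_)
    rw [show vs.length + (3 * s + 2) = (vs.length + 3 * s) + 2 by omega, List.replicate_add, List.replicate_add]
    simp only [hFdef, bpolys, List.map_cons, List.map_nil, ← Multiset.coe_add, ← Multiset.cons_coe,
      ← Multiset.singleton_add, Multiset.coe_nil, add_zero, List.replicate_succ, List.replicate_zero]
    abel

theorem jj_good : ∀ {k : ℕ}, k ≠ 1 → Good a φ (List.replicate k (bpoly a [1,0]))
  | 0, _ => Good.nil
  | 1, h => absurd rfl h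
  | 2, _ => by simpa [bpolys] using good_key (a := a) (φ := φ) D4.jay_ok (ms := [[1,0],[1,0]]) (by decide)
  | 3, _ => by simpa [bpolys] using good_key (a := a) (φ := φ) D4.jay_ok (ms := [[1,0],[1,0],[1,0]]) (by decide)
  | k + 4, _ => by
    have h2 : Good a φ [bpoly a [1,0], bpoly a [1,0]] := by
      simpa [bpolys] using good_key (a := a) (φ := φ) D4.jay_ok (ms := [[1,0],[1,0]]) (by decide)
    exact (h2.append (jj_good (k := k + 2) (by omega))).perm (List.Perm.of_eq rfl)

theorem j3_good {m : List ℕ} (hm : has D4.solo3 [m] [[1,1,0]] = true) : ∀ l, Good a φ (List.replicate l (bpoly a m))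
  | 0 => Good.nil
  | l + 1 => (FG.good (fg_key (a := a) D4.solo3_ok hm) (by decide) : Good a φ (bpolys a [m])).append (j3_good hm l)

/-- **Two or three equal unipotent rows.** -/
theorem jcase {u v : ℕ} (huv : (u = 2 ∧ v = 3) ∨ (u = 3 ∧ v = 2)) {os us vs : List K[X]}
    (ho : ∀ f ∈ os, Item a 1 f) (hu : ∀ f ∈ us, Item a u f) (hv : ∀ f ∈ vs, Item a v f)
    (hle : vs.length ≤ us.length) (hmod : us.length % 3 = vs.length % 3) {k l : ℕ} (hk : 0 < k)
    (hl : 0 < l → bpoly a [u] ∉ us)
    (hbig : ¬ (k = 1 ∧ l = 0 ∧ us = [] ∧ vs = [] ∧ (os = [] ∨ os = [bpoly a [1]]))) :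
    Good a φ (List.replicate k (bpoly a [1,0]) ++ List.replicate l (bpoly a [1,1,1]) ++ os ++ us ++ vs) := by
  have hu2 : u = 2 ∨ u = 3 := by omega
  have iu := item_bpoly (a := a) (n := u) (by rcases hu2 with rfl | rfl <;> decide)
  have i1 := item_bpoly (a := a) (n := 1) (by decide)
  have hJ3 := fun l => j3_good (a := a) hK hφ (m := [1,1,1]) (by decide +kernel) l
  have j31 : Good a φ (bpolys a [[1,1,1]] ++ [bpoly a [1]]) :=
    good_with hK hφ D4.good_ok (List.Forall₂.cons i1 List.Forall₂.nil) (by decide +kernel)
  by_cases hk1 : k = 1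
  swap
  · have hJ := jj_good (a := a) hK hφ hk1
    refine base hK hφ huv (hJ.append (hJ3 l)) ho hu hv hle hmod (fun e _ _ => ?_) (fun _ _ e hne => ?_)
    · rcases l with _ | l
      · simp only [List.replicate_zero, List.append_nil]
        rcases (by omega : k = 2 ∨ k = 3 ∨ 4 ≤ k) with rfl | rfl | h4
        · exact good_with hK hφ (ms := [[1,0],[1,0]]) D4.jays_ok (List.Forall₂.cons i1 List.Forall₂.nil) (by decide +kernel)
        · exact good_with hK hφ (ms := [[1,0],[1,0],[1,0]]) D4.jays_ok (List.Forall₂.cons i1 List.Forall₂.nil) (by decide +kernel)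
        · obtain ⟨k, rfl⟩ : ∃ j, k = j + 4 := ⟨k - 4, by omega⟩
          have g1 : Good a φ (bpolys a [[1,0],[1,0]] ++ [bpoly a [1]]) :=
            good_with hK hφ D4.jays_ok (List.Forall₂.cons i1 List.Forall₂.nil) (by decide +kernel)
          refine ((jj_good (a := a) hK hφ (k := k + 2) (by omega)).append g1).perm (perm_of_mset ?_)
          rw [show k + 4 = (k + 2) + 2 by omega, List.replicate_add]
          simp only [bpolys, List.map_cons, List.map_nil, ← Multiset.coe_add, ← Multiset.cons_coe,
            ← Multiset.singleton_add, Multiset.coe_nil, add_zero, List.replicate_succ, List.replicate_zero]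
          abel
      · refine ((hJ.append (hJ3 l)).append j31).perm (perm_of_mset ?_)
        simp only [bpolys, List.map_cons, List.map_nil, List.replicate_succ, ← Multiset.coe_add, ← Multiset.cons_coe,
          ← Multiset.singleton_add, Multiset.coe_nil, add_zero]
        abel
    · obtain rfl : l = 0 := by
        by_contra h0
        exact hl (by omega) (item_mem_replicate e hne)
      simp only [List.replicate_zero, List.append_nil]
      have h3u : List.Forall₂ (fun f n => Item a n f) [bpoly a [u], bpoly a [u], bpoly a [u]] [u, u, u] :=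
        List.Forall₂.cons iu (List.Forall₂.cons iu (List.Forall₂.cons iu List.Forall₂.nil))
      rcases (by omega : k = 2 ∨ 3 ≤ k) with rfl | h3
      · exact good_with hK hφ (ms := [[1,0],[1,0]]) D4.jays_ok h3u (by rcases hu2 with rfl | rfl <;> decide +kernel)
      · obtain ⟨k, rfl⟩ : ∃ j, k = j + 1 := ⟨k - 1, by omega⟩
        have g1 : Good a φ (bpolys a [[1,0]] ++ [bpoly a [u], bpoly a [u], bpoly a [u]]) :=
          good_with hK hφ D4.jay_ok h3u (by rcases hu2 with rfl | rfl <;> decide +kernel)
        refine ((jj_good (a := a) hK hφ (k := k) (by omega)).append g1).perm (perm_of_mset ?_)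
        simp only [bpolys, List.map_cons, List.map_nil, List.replicate_succ, ← Multiset.coe_add, ← Multiset.cons_coe,
          ← Multiset.singleton_add, Multiset.coe_nil, add_zero]
        abel
  subst hk1
  rcases l with _ | l
  swap
  · have gJ : Good a φ (bpolys a [[1,0],[1,1,1]]) :=
      FG.good (fg_keyP D4.jay_ok (by decide +kernel)) fun _ hx => pool_mem hx
    have := base hK hφ huv (gJ.append (hJ3 l)) ho hu hv hle hmod
      (fun _ _ _ => by
        have g1 : Good a φ (bpolys a [[1,0],[1,1,1]] ++ [bpoly a [1]]) :=
          good_with hK hφ D4.jay_ok (List.Forall₂.cons i1 List.Forall₂.nil) (by decide +kernel)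
        refine (g1.append (hJ3 l)).perm (perm_of_mset ?_)
        simp only [← Multiset.coe_add]
        abel)
      fun _ _ e hne => absurd (item_mem_replicate e hne) (hl (by omega))
    refine this.perm (perm_of_mset ?_)
    simp only [bpolys, List.map_cons, List.map_nil, List.replicate_succ, List.replicate_zero, ← Multiset.coe_add,
      ← Multiset.cons_coe, ← Multiset.singleton_add, Multiset.coe_nil, add_zero]
    abel
  simp only [List.replicate_zero, List.append_nil, List.replicate_one]
  match os, ho, hbig with
  | [], _, hbig =>
    rcases vs with _ | ⟨q, vs⟩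
    · match us, hu, hle, hmod, hbig with
      | [], _, _, _, hbig => exact absurd ⟨rfl, rfl, rfl, rfl, Or.inl rfl⟩ hbig
      | [_], _, _, h, _ => simp at h
      | [_, _], _, h, h', _ => simp at h'
      | x :: y :: z :: us, hu, _, hmod, _ =>
        have hx := hu x (by simp)
        have hy := hu y (by simp)
        have hz := hu z (by simp)
        have gJ : Good a φ (bpolys a [[1,0]] ++ [x, y, z]) :=
          good_with hK hφ D4.jay_ok (List.Forall₂.cons hx (List.Forall₂.cons hy (List.Forall₂.cons hz List.Forall₂.nil)))
            (by rcases hu2 with rfl | rfl <;> decide +kernel)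
        have := base hK hφ huv gJ (os := []) (by simp) (us := us) (fun w hw => hu w (by simp [hw])) (vs := []) (by simp)
          (by simp) (by simp only [List.length_cons, List.length_nil] at hmod ⊢; omega) (fun e => absurd e (by simp))
          fun _ _ _ _ => by
            have g1 : Good a φ (bpolys a [[1,0]] ++ [x, y, z, bpoly a [u], bpoly a [u], bpoly a [u]]) :=
              good_with hK hφ D4.jay_ok (List.Forall₂.cons hx (List.Forall₂.cons hy (List.Forall₂.cons hz
                (List.Forall₂.cons iu (List.Forall₂.cons iu (List.Forall₂.cons iu List.Forall₂.nil))))))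
                (by rcases hu2 with rfl | rfl <;> decide +kernel)
            exact g1.perm (List.Perm.of_eq (by simp [bpolys]))
        exact this.perm (List.Perm.of_eq (by simp [bpolys]))
    · obtain ⟨p, us, rfl⟩ := List.exists_cons_of_ne_nil (l := us) (by intro e; simp [e] at hle)
      simp only [List.length_cons] at hle hmod
      have hp := hu p (by simp)
      have hq := hv q (by simp)
      have gJ : Good a φ (bpolys a [[1,0]] ++ [p, q]) :=
        good_with hK hφ D4.jay_ok (List.Forall₂.cons hp (List.Forall₂.cons hq List.Forall₂.nil))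
          (by rcases huv with ⟨rfl, rfl⟩ | ⟨rfl, rfl⟩ <;> decide +kernel)
      have := base hK hφ huv gJ (os := []) (by simp) (us := us) (fun w hw => hu w (by simp [hw])) (vs := vs)
        (fun w hw => hv w (by simp [hw])) (by omega) (by omega) (fun e => absurd e (by simp))
        fun _ _ _ _ => by
          have g1 : Good a φ (bpolys a [[1,0]] ++ [bpoly a [u], bpoly a [u], bpoly a [u]]) :=
            good_with hK hφ D4.jay_ok (List.Forall₂.cons iu (List.Forall₂.cons iu (List.Forall₂.cons iu List.Forall₂.nil)))
              (by rcases hu2 with rfl | rfl <;> decide +kernel)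
          have g2 : Good a φ ([p] ++ [q]) := good_pairs hK hφ huv (by simp [hp]) (by simp [hq]) (by simp)
          refine (g1.append g2).perm (perm_of_mset ?_)
          simp only [bpolys, List.map_cons, List.map_nil, ← Multiset.coe_add, ← Multiset.cons_coe,
            ← Multiset.singleton_add, Multiset.coe_nil, add_zero]
          abel
      refine this.perm (perm_of_mset ?_)
      simp only [bpolys, List.map_cons, List.map_nil, ← Multiset.coe_add, ← Multiset.cons_coe,
        ← Multiset.singleton_add, Multiset.coe_nil, add_zero]
      abel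
  | [f], ho, hbig =>
    have hf := ho f (by simp)
    rcases hf.2.2.2 with hd | hd
    swap
    · have gJ : Good a φ (f :: ([] ++ bpolys a [[1,0]])) := by
        refine good_red (a := a) hK hφ (T := [[1,1,2,1]]) (by decide) [(f, 2)]
          (by simpa using ⟨hf.1, by omega, hf.2.2.1⟩) (rest := bpolys a [[1,0]]) fun gs hgs => ?_
        cases hgs with
        | cons hg hr =>
          cases hr
          obtain ⟨m, hm, rfl⟩ := code_cd (a := a) hK hg.1 hg.2.1 (by norm_num) (by norm_num) (hg.2.2.trans hf.2.1)
          exact (fg_key (a := a) D4.tails_ok (ms := [[1,0], m]) (List.all_eq_true.1 jtail_all m hm)).perm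
            (List.Perm.swap _ _ _)
      have := base hK hφ huv gJ (os := []) (by simp) hu hv hle hmod (fun e => absurd e (by simp))
        fun _ _ _ _ => by
          have g1 : Good a φ (bpolys a [[1,0]] ++ [bpoly a [u], bpoly a [u], bpoly a [u]]) :=
            good_with hK hφ D4.jay_ok (List.Forall₂.cons iu (List.Forall₂.cons iu (List.Forall₂.cons iu List.Forall₂.nil)))
              (by rcases hu2 with rfl | rfl <;> decide +kernel)
          refine ((good_big hK hφ hf hd).append g1).perm (perm_of_mset ?_)
          simp only [bpolys, List.map_cons, List.map_nil, ← Multiset.coe_add, ← Multiset.cons_coe,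
            ← Multiset.singleton_add, Multiset.coe_nil, add_zero, List.nil_append]
          abel
      refine this.perm (perm_of_mset ?_)
      simp only [bpolys, List.map_cons, List.map_nil, ← Multiset.coe_add, ← Multiset.cons_coe,
        ← Multiset.singleton_add, Multiset.coe_nil, add_zero, List.nil_append]
      abel
    obtain rfl := item_linear hf hd
    rcases vs with _ | ⟨q, vs⟩
    · match us, hu, hle, hmod, hbig with
      | [], _, _, _, hbig => exact absurd ⟨rfl, rfl, rfl, rfl, Or.inr rfl⟩ hbig
      | [_], _, _, h, _ => simp at h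
      | [_, _], _, h, h', _ => simp at h'
      | x :: y :: z :: us, hu, _, hmod, _ =>
        have hx := hu x (by simp)
        have hy := hu y (by simp)
        have hz := hu z (by simp)
        have gJ : Good a φ (bpolys a [[1,0]] ++ [bpoly a [1], x, y, z]) :=
          good_with hK hφ D4.jay_ok
            (List.Forall₂.cons hf (List.Forall₂.cons hx (List.Forall₂.cons hy (List.Forall₂.cons hz List.Forall₂.nil))))
            (by rcases hu2 with rfl | rfl <;> decide +kernel)
        have := base hK hφ huv gJ (os := []) (by simp) (us := us) (fun w hw => hu w (by simp [hw])) (vs := []) (by simp)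
          (by simp) (by simp only [List.length_cons, List.length_nil] at hmod ⊢; omega) (fun e => absurd e (by simp))
          fun _ _ _ _ => by
            have g1 : Good a φ (bpolys a [[1,0]] ++ [x, y, z]) :=
              good_with hK hφ D4.jay_ok (List.Forall₂.cons hx (List.Forall₂.cons hy (List.Forall₂.cons hz List.Forall₂.nil)))
                (by rcases hu2 with rfl | rfl <;> decide +kernel)
            have g2 : Good a φ ([bpoly a [1], bpoly a [u], bpoly a [u], bpoly a [u]]) := by
              simpa [bpolys] using good_items hK hφ D4.ids_ok (ms := [])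
                (List.Forall₂.cons hf (List.Forall₂.cons iu (List.Forall₂.cons iu (List.Forall₂.cons iu List.Forall₂.nil))))
                (by rcases hu2 with rfl | rfl <;> decide +kernel)
            refine (g1.append g2).perm (perm_of_mset ?_)
            simp only [bpolys, List.map_cons, List.map_nil, ← Multiset.coe_add, ← Multiset.cons_coe,
              ← Multiset.singleton_add, Multiset.coe_nil, add_zero]
            abel
        exact this.perm (List.Perm.of_eq (by simp [bpolys]))
    · obtain ⟨p, us, rfl⟩ := List.exists_cons_of_ne_nil (l := us) (by intro e; simp [e] at hle)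
      simp only [List.length_cons] at hle hmod
      have hp := hu p (by simp)
      have hq := hv q (by simp)
      have gJ : Good a φ (bpolys a [[1,0]] ++ [bpoly a [1], p, q]) :=
        good_with hK hφ D4.jay_ok (List.Forall₂.cons hf (List.Forall₂.cons hp (List.Forall₂.cons hq List.Forall₂.nil)))
          (by rcases huv with ⟨rfl, rfl⟩ | ⟨rfl, rfl⟩ <;> decide +kernel)
      have := base hK hφ huv gJ (os := []) (by simp) (us := us) (fun w hw => hu w (by simp [hw])) (vs := vs)
        (fun w hw => hv w (by simp [hw])) (by omega) (by omega) (fun e => absurd e (by simp))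
        fun _ _ _ _ => by
          have g1 : Good a φ (bpolys a [[1,0]] ++ [bpoly a [1], bpoly a [u], bpoly a [u], bpoly a [u]]) :=
            good_with hK hφ D4.jay_ok
              (List.Forall₂.cons hf (List.Forall₂.cons iu (List.Forall₂.cons iu (List.Forall₂.cons iu List.Forall₂.nil))))
              (by rcases hu2 with rfl | rfl <;> decide +kernel)
          have g2 : Good a φ ([p] ++ [q]) := good_pairs hK hφ huv (by simp [hp]) (by simp [hq]) (by simp)
          refine (g1.append g2).perm (perm_of_mset ?_)
          simp only [bpolys, List.map_cons, List.map_nil, ← Multiset.coe_add, ← Multiset.cons_coe,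
            ← Multiset.singleton_add, Multiset.coe_nil, add_zero]
          abel
      refine this.perm (perm_of_mset ?_)
      simp only [bpolys, List.map_cons, List.map_nil, ← Multiset.coe_add, ← Multiset.cons_coe,
        ← Multiset.singleton_add, Multiset.coe_nil, add_zero]
      abel
  | f :: g :: os, ho, _ =>
    obtain ⟨fs, rest, hfs, hrest, hlen⟩ : ∃ fs rest, f :: g :: os = fs ++ rest ∧ rest.length ≠ 1 ∧ (fs.length = 2 ∨ fs.length = 3) := by
      rcases os with _ | ⟨e, _ | ⟨e', os⟩⟩
      · exact ⟨[f, g], [], rfl, by simp, Or.inl rfl⟩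
      · exact ⟨[f, g, e], [], rfl, by simp, Or.inr rfl⟩
      · exact ⟨[f, g], e :: e' :: os, rfl, by simp, Or.inl rfl⟩
    rw [hfs] at ho ⊢
    simp only [List.forall_mem_append] at ho
    have gJ : Good a φ (bpolys a [[1,0]] ++ fs) := by
      refine good_with hK hφ D4.jay_ok (forall₂_replicate ho.1) ?_
      rcases hlen with h | h <;> rw [h] <;> decide +kernel
    have := base hK hφ huv gJ (os := rest) ho.2 hu hv hle hmod
      (fun e => absurd (by rw [e]; simp) hrest)
      fun _ _ _ _ => by
        have g1 : Good a φ (bpolys a [[1,0]] ++ [bpoly a [u], bpoly a [u], bpoly a [u]]) :=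
          good_with hK hφ D4.jay_ok (List.Forall₂.cons iu (List.Forall₂.cons iu (List.Forall₂.cons iu List.Forall₂.nil)))
            (by rcases hu2 with rfl | rfl <;> decide +kernel)
        have g2 := good_ones hK hφ ho.1 (by omega)
        refine (g1.append g2).perm (perm_of_mset ?_)
        simp only [bpolys, List.map_cons, List.map_nil, ← Multiset.coe_add, ← Multiset.cons_coe,
          ← Multiset.singleton_add, Multiset.coe_nil, add_zero]
        abel
    refine this.perm (perm_of_mset ?_)
    simp only [bpolys, List.map_cons, List.map_nil, ← Multiset.coe_add, ← Multiset.cons_coe,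
      ← Multiset.singleton_add, Multiset.coe_nil, add_zero]
    abel

end H31.Com.Uni
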