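import Cfsg.Agent.H31.Unitary.Code
import Cfsg.Agent.H31.Commutator.Side

/-!
Polynomials over four elements free against their twisted reciprocals.
-/

set_option autoImplicit false
set_option maxRecDepth 100000
set_option linter.style.longLine false
set_option linter.unusedSectionVars false

namespace H31.Com.Uni

open Matrix Polynomial
open H31.Com

namespace D4

/-- The special polynomials; the first six carry the small units. -/
def cs : List (List ℕ) :=  [[1,2],[2,1],[3,3],[1,1,0],[1,1,2,1],[1,0,0,1,0],[1,0,2],[1,0,1,2],[1,0,0,0,2]]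

def zTwist : List (List ℕ × List ℕ) :=
  [([3,1],[2,1]),([2],[3]),([2,1],[3,3]),([2,3],[3]),([0,0,2,1],[1,1]),([3,3,0,1,2],[2,2]),([2,2,3],[3,3]),([2,1,3],[3]),([2,3,2,0,2],[3,2]),([1,1],[3,1]),([2,1],[2,2]),([1],[3]),([2,2,1],[2,1]),([2,0,2],[2]),([3,0,2,3,3],[0,3]),([2,2],[2]),([0,0,2,3],[1,3]),([3,1,3,1,1],[0,1]),([3],[3]),([3,1],[3,2]),([1,1],[2,3]),([3,1,1],[3,1]),([2,3,1,3],[0,3]),([1,2,3,3,2],[2,2]),([3,1,3],[3,3]),([1,1,1,1],[2,1]),([2,3,3,2,3],[0,3]),([2,1],[3,1,1]),([3],[2,1]),([2,1],[3,2,3]),([0,1],[1,1]),([1,0,2,3],[0,1,3]),([0,0,0,0,1],[1,0,1]),([2,0,3],[3,0,3]),([2,3,3,1],[3,3,1]),([1,2,1,3,1],[0,3,1]),([1,1],[0,0,3,1]),([0,2],[1,3,2,3]),([3],[2,0,2]),([0,2,1],[1,2,2,1]),([2,2,0,1],[3,3,0,1]),([3,2,3,2],[2,1,2]),([0,3,3],[1,0,0,3]),([1,1,3,3],[0,0,0,3]),([0,0,1,1,2],[1,3,3,2]),([1,3],[0,3,2,3,3]),([1,3],[0,3,3,0,1]),([3,2],[2,1,1,3,1]),([1,0,1],[0,0,1,1,1]),([0,0,3,3],[1,1,1,0,3]),([1,1,1],[0,1,1]),([1,1,3],[0,1,0,1,3]),([0,3,2],[1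,0,3,2]),([0,2,3,3,3],[1,1,0,3,3]),([2,3],[3,1,3]),([3,3],[2,1,1]),([2],[3,1]),([2,2],[3,2]),([1,1,2,1],[0,1,1]),([0,3,2,2,3],[1,3,3]),([1,3],[0,3]),([2,1,0,2],[3,3,2]),([1,0,3,2,1],[0,0,1]),([0,2],[1,1,2,2]),([1,3],[0,3,2,1]),([2,1],[3,0,3,3]),([2,1],[3,1,1]),([1,2,2,1],[0,2,1,1]),([3,2,3,0,1],[2,2,2,1]),([1,1,1],[0,1,3,1]),([3,2,3,2],[2,3,0,2]),([2,2,1,3],[3,0,3]),([0,3],[1,0,1,3,3]),([3,2],[2,0,1,1,3]),([1,1],[0,1,2,1,3]),([1,2],[0,2,0,2]),([3,1,2,1],[2,3,0,1,1]),([0,3,1,3,2],[1,3,0,0,2]),([3],[2,1,3]),([3,3],[2,2,3]),([3,1,3,0,1],[2,0,3,2,1])]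

def zPair : List (List ℕ × List ℕ) :=
  [([],[]),([0,1],[3,1]),([1,1],[0,1]),([2,1,1],[3,1]),([2,3,1,3],[3,3]),([0,2,3,2,2],[1,2]),([3,2,3],[2,3]),([0,0,1],[1]),([1,1,3,0,3],[0,3]),([3,1],[0,1]),([],[]),([0,1],[2,1]),([1,2,1],[3,1]),([3,0,0,3],[0,3]),([2,3,3,1,3],[2,3]),([1,1,3],[3,3]),([3,0,2,3],[0,3]),([2,2,0,1,1],[2,1]),([0,1],[1,1]),([2,1],[0,1]),([],[]),([1,2],[2]),([0,2,1],[1]),([0,3,3,0,2],[1,2]),([3,3],[3]),([3,3,3],[3]),([3,2,3,0,3],[3,3]),([3,1],[2,1,1]),([3,1],[1,2,1]),([2],[1,2]),([],[]),([1,0,3,2],[0,1,2]),([1,0,0,1],[0,1]),([1,0,3],[0,1,3]),([1,3,1,2],[0,2,2]),([3,1,1,2],[2,2]),([3,3],[2,3,1,3]),([0,3],[3,0,0,3]),([1],[0,2,1]),([0,1,2],[1,0,3,2]),([],[]),([1,1,1,0,2],[0,0,2,2]),([3,2,1],[2,1,1,1]),([0,2,3,1],[1,2,0,1]),([2,0,2,3,3],[3,2,1,3]),([1,2],[0,2,3,2,2]),([2,3],[2,3,3,1,3]),([1,2],[0,3,3,0,2]),([0,1],[1,0,0,1]),([0,0,2,2],[1,1,1,0,2]),([],[]),([3,3,2],[2,3,1,0,2]),([3,3,1,3],[2,3,3,0,3]),([2,1,3,1,1],[3,1,3,3,1]),([2,3],[3,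2,3]),([3,3],[1,1,3]),([3],[3,3]),([0,1,3],[1,0,3]),([2,1,1,1],[3,2,1]),([2,3,1,0,2],[3,3,2]),([],[]),([0,2,2,3],[1,2,3]),([1,2,0,2,2],[0,2,2]),([1],[0,0,1]),([0,3],[3,0,2,3]),([3],[3,3,3]),([0,2,2],[1,3,1,2]),([1,2,0,1],[0,2,3,1]),([2,3,3,0,3],[3,3,1,3]),([1,2,3],[0,2,2,3]),([],[]),([0,3,1,1,2],[1,3,1,2]),([0,3],[1,1,3,0,3]),([2,1],[2,2,0,1,1]),([3,3],[3,2,3,0,3]),([2,2],[3,1,1,2]),([3,2,1,3],[2,0,2,3,3]),([3,1,3,3,1],[2,1,3,1,1]),([0,2,2],[1,2,0,2,2]),([1,3,1,2],[0,3,1,1,2]),([],[])]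


/-- All ordered pairs. -/
def cpairs : List (List ℕ × List ℕ) := cs.flatMap fun x => cs.map fun y => (x, y)

/-- The twisted reciprocal of a code. -/
def twistC (m : List ℕ) : List ℕ := (m ++ [1]).reverse.map fun x => mul4 x x

theorem twist_ok : (decide (zTwist.length = cpairs.length) &&
    (cpairs.zip zTwist).all fun e => bez4 (e.1.1 ++ [1]) (twistC e.1.2) e.2.1 e.2.2) = true := by decide +kernel

theorem pair_ok : (decide (zPair.length = cpairs.length) &&
    (cpairs.zip zPair).all fun e => e.1.1 == e.1.2 || bez4 (e.1.1 ++ [1]) (e.1.2 ++ [1]) e.2.1 e.2.2) = true := by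
  decide +kernel

theorem value_ok : cs.all (fun m => decide (2 ≤ m.length ∧ m.length ≤ 5) && ((m ++ [1]).foldr add4 0 % 4 != 0) &&
    (m.getD 0 0 % 4 != 0)) = true := by decide +kernel

end D4

variable {K : Type*} [Field K] {σ : K →+* K}

theorem sigma_sq [Fintype K] [hs : Invol σ] (h4 : Fintype.card K = 4) (x : K) : σ x = x ^ 2 := by
  classical
  have hp : ∀ y : K, y ^ 4 = y := fun y => h4 ▸ FiniteField.pow_card y
  obtain ⟨b, hb⟩ := hs.nontriv
  have hb0 : b ≠ 0 := fun e => hb (by rw [e, map_zero])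
  have hb1 : b ≠ 1 := fun e => hb (by rw [e, map_one])
  have h3 : b ^ 3 = 1 := mul_left_cancel₀ hb0 (by linear_combination hp b)
  have hb2 : b * b + b + 1 = 0 := by
    refine (mul_eq_zero.1 (show (b - 1) * (b * b + b + 1) = 0 by linear_combination h3)).resolve_left ?_
    exact sub_ne_zero.2 hb1
  have hne : b ^ 2 ≠ b := fun e => hb1 (mul_left_cancel₀ hb0 (by linear_combination e))
  have hall : ∀ y : K, y = 0 ∨ y = 1 ∨ y = b ∨ y = b ^ 2 := fun y => by
    have e : (y - 0) * (y - 1) * ((y - b) * (y - b ^ 2)) = 0 := by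
      linear_combination hp y + (-(y ^ 3) + y ^ 2 + (b - 1) * (y ^ 2 - y)) * hb2 + y * (0 : K)
    rcases mul_eq_zero.1 e with h | h <;> rcases mul_eq_zero.1 h with h | h <;> simp [sub_eq_zero.1 h]
  have hσb : σ b = b ^ 2 := by
    rcases hall (σ b) with h | h | h | h
    · exact absurd (σ.injective (h.trans (map_zero σ).symm)) hb0
    · exact absurd (σ.injective (h.trans (map_one σ).symm)) hb1
    · exact absurd h hb
    · exact h
  rcases hall x with h | h | h | h <;> subst h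
  · simp
  · simp
  · exact hσb
  · rw [map_pow, hσb]

theorem exists_omega [Fintype K] (h4 : Fintype.card K = 4) : ∃ a : K, Omega a := by
  classical
  obtain ⟨a, -, ha⟩ := Finset.exists_mem_notMem_of_card_lt_card (t := Finset.univ) (s := ({0, 1} : Finset K))
    (by rw [Finset.card_univ, h4]; exact lt_of_le_of_lt Finset.card_le_two (by norm_num))
  simp only [Finset.mem_insert, Finset.mem_singleton, not_or] at ha
  have h2 : (2 : K) = 0 := by
    have : (((4 : ℕ) : K)) = 0 := h4 ▸ Nat.cast_card_eq_zero K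
    exact (mul_self_eq_zero.1 (show (2 : K) * 2 = 0 by rw [← this]; norm_num))
  refine ⟨a, ⟨by linear_combination h2, ?_⟩⟩
  have h := h4 ▸ FiniteField.pow_card a
  have h3 : a ^ 3 = 1 := mul_left_cancel₀ ha.1 (by linear_combination h)
  have := (mul_eq_zero.1 (show (a - 1) * (a * a + a + 1) = 0 by linear_combination h3)).resolve_left (sub_ne_zero.2 ha.2)
  linear_combination this - (a + 1) * h2

/-- The twisted reciprocal. -/
noncomputable def trev (σ : K →+* K) (p : K[X]) : K[X] := (p.map σ).reverse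

theorem trev_mul (p t : K[X]) : trev σ (p * t) = trev σ p * trev σ t := by
  rw [trev, trev, trev, Polynomial.map_mul, reverse_mul_of_domain]

theorem trev_one : trev σ (1 : K[X]) = 1 := by rw [trev, Polynomial.map_one, ← C_1, reverse_C]

theorem map_reverse (p : K[X]) : p.reverse.map σ = (p.map σ).reverse := by
  ext k
  rw [coeff_map, coeff_reverse, coeff_reverse, natDegree_map_eq_of_injective σ.injective, coeff_map]

/-- The polynomials are pairwise free against twisted reciprocals. -/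
def TFree (σ : K →+* K) (S : Set K[X]) : Prop := ∀ p ∈ S, ∀ t ∈ S, IsCoprime p (trev σ t)

theorem TFree.coprime {S : Set K[X]} (hS : TFree σ S) {Φ Ψ : K[X]} (h : Φ ∈ Submonoid.closure S)
    (h' : Ψ ∈ Submonoid.closure S) : IsCoprime Φ (trev σ Ψ) := by
  induction h using Submonoid.closure_induction with
  | mem p hp =>
    induction h' using Submonoid.closure_induction with
    | mem t ht => exact hS p hp t ht
    | one => rw [trev_one]; exact isCoprime_one_right
    | mul x y _ _ hx hy => rw [trev_mul]; exact hx.mul_right hy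
  | one => exact isCoprime_one_left
  | mul x y _ _ hx hy => exact hx.mul_left hy

theorem trev_symm [hs : Invol σ] {p t : K[X]} (hp : p.coeff 0 ≠ 0) (ht : t.coeff 0 ≠ 0) (h : IsCoprime p (trev σ t)) :
    IsCoprime t (trev σ p) := by
  have h1 := h.map (mapRingHom σ)
  simp only [coe_mapRingHom, trev, map_reverse, Polynomial.map_map] at h1
  rw [show σ.comp σ = RingHom.id K from RingHom.ext hs.invol, Polynomial.map_id] at h1
  exact coprime_rev_symm (by rw [coeff_map]; exact fun e => hp (σ.injective (e.trans (map_zero σ).symm))) ht h1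

theorem eval_closure {S : Set K[X]} {x : K} (hS : ∀ p ∈ S, p.eval x ≠ 0) {Φ : K[X]}
    (h : Φ ∈ Submonoid.closure S) : Φ.eval x ≠ 0 := by
  induction h using Submonoid.closure_induction with
  | mem p hp => exact hS p hp
  | one => simp
  | mul p t _ _ hp ht => rw [eval_mul]; exact mul_ne_zero hp ht

variable {a : K} [Omega a]

theorem trev_bpoly (hσ : ∀ x, σ x = x ^ 2) {m : List ℕ} (hm : (m.getD 0 0 % 4 != 0) = true) :
    trev σ (bpoly a m) = ofE a (D4.twistC m) := by
  have hd : ((bpoly a m).map σ).natDegree = m.length := by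
    rw [natDegree_map_eq_of_injective σ.injective, bpoly_natDegree]
  have hne : m ≠ [] := fun e => by simp [e] at hm
  ext k
  rw [trev, coeff_reverse, hd, coeff_map, bpoly, coeff_ofE, coeff_ofE, hσ, ← emb_sq, D4.twistC]
  by_cases hk : k ≤ m.length
  · have hl1 : m.length - k < (m ++ [1]).length := by
      simp only [List.length_append, List.length_singleton]; omega
    have hl2 : k < (List.map (fun x => mul4 x x) (m ++ [1]).reverse).length := by
      simp only [List.length_map, List.length_reverse, List.length_append, List.length_singleton]; omega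
    rw [revAt_le hk, List.getD_eq_getElem _ _ hl1, List.getD_eq_getElem _ _ hl2, List.getElem_map,
      List.getElem_reverse]
    simp
  · rw [show revAt m.length k = k by rw [← revAtFun_eq, revAtFun, if_neg hk],
      List.getD_eq_default _ _ (by simp; omega), List.getD_eq_default _ _ (by simp; omega)]
    rfl

theorem bpoly_eval_one (m : List ℕ) : (bpoly a m).eval 1 = emb a ((m ++ [1]).foldr add4 0) := by
  rw [bpoly]
  induction (m ++ [1]) with
  | nil => simp [ofE]
  | cons x l ih => simp [ofE, ih, emb_add]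

theorem cs_prop {x : List ℕ} (hx : x ∈ D4.cs) :
    2 ≤ x.length ∧ x.length ≤ 5 ∧ (bpoly a x).eval 1 ≠ 0 ∧ (x.getD 0 0 % 4 != 0) = true ∧ (bpoly a x).coeff 0 ≠ 0 := by
  have h := List.all_eq_true.1 D4.value_ok x hx
  simp only [Bool.and_eq_true, decide_eq_true_eq] at h
  refine ⟨h.1.1.1, h.1.1.2, by rw [bpoly_eval_one]; exact emb_ne_zero h.1.2, h.2, ?_⟩
  rw [bpoly, coeff_ofE, List.getD_append _ _ _ _ (by omega)]
  exact emb_ne_zero h.2

theorem cs_twist (hσ : ∀ x, σ x = x ^ 2) {x y : List ℕ} (hx : x ∈ D4.cs) (hy : y ∈ D4.cs) :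
    IsCoprime (bpoly a x) (trev σ (bpoly a y)) := by
  have h := D4.twist_ok
  simp only [Bool.and_eq_true, decide_eq_true_eq] at h
  obtain ⟨i, hi, he⟩ := List.mem_iff_getElem.1 (show (x, y) ∈ D4.cpairs from
    List.mem_flatMap.2 ⟨x, hx, List.mem_map.2 ⟨y, hy, rfl⟩⟩)
  have := List.all_eq_true.1 h.2 (D4.cpairs[i], D4.zTwist[i]'(by omega))
    (List.mem_iff_getElem.2 ⟨i, by simp only [List.length_zip]; omega, by simp⟩)
  rw [he] at this
  rw [trev_bpoly hσ (cs_prop (a := a) hy).2.2.2.1]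
  exact coprime_of_bez4 this

theorem cs_pair {x y : List ℕ} (hx : x ∈ D4.cs) (hy : y ∈ D4.cs) (hxy : x ≠ y) :
    IsCoprime (bpoly a x) (bpoly a y) := by
  have h := D4.pair_ok
  simp only [Bool.and_eq_true, decide_eq_true_eq] at h
  obtain ⟨i, hi, he⟩ := List.mem_iff_getElem.1 (show (x, y) ∈ D4.cpairs from
    List.mem_flatMap.2 ⟨x, hx, List.mem_map.2 ⟨y, hy, rfl⟩⟩)
  have := List.all_eq_true.1 h.2 (D4.cpairs[i], D4.zPair[i]'(by omega))
    (List.mem_iff_getElem.2 ⟨i, by simp only [List.length_zip]; omega, by simp⟩)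
  rw [he] at this
  simp only [Bool.or_eq_true, beq_iff_eq, hxy, false_or] at this
  exact coprime_of_bez4 this

theorem aeval_sq (hσ : ∀ x, σ x = x ^ 2) {E : Type*} [CommRing E] [Algebra K E] [CharP E 2] (y : E) (f : K[X]) :
    aeval y f ^ 2 = aeval (y ^ 2) (f.map σ) := by
  induction f using Polynomial.induction_on' with
  | add p q hp hq => simp only [map_add, Polynomial.map_add, ← hp, ← hq]; exact add_pow_char _ _ _
  | monomial k c =>
    rw [map_monomial, aeval_monomial, aeval_monomial, hσ, map_pow, mul_pow, ← pow_mul, ← pow_mul, mul_comm k]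

/-- Large irreducible polynomials of determinant one, free against their own twist. -/
theorem exists_big [Fintype K] (h4 : Fintype.card K = 4) (hσ : ∀ x, σ x = x ^ 2) {J : ℕ} (hJ : 3 ≤ J) :
    ∃ f : K[X], Irreducible f ∧ f.Monic ∧ f.natDegree = J ∧ cd f = 1 ∧ IsCoprime f (trev σ f) := by
  classical
  obtain ⟨p, hp⟩ := CharP.exists K
  have : Fact p.Prime := ⟨CharP.char_is_prime K p⟩
  have : NeZero J := ⟨by omega⟩
  let E := FiniteField.Extension K p J
  letI : Fintype E := Fintype.ofFinite E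
  set q := Fintype.card K with hq
  have hq1 : 1 < q := Fintype.one_lt_card
  have hcE : Nat.card Eˣ = q ^ J - 1 := by
    rw [Nat.card_units, FiniteField.natCard_extension, Nat.card_eq_fintype_card, hq]
  obtain ⟨g, hg⟩ := IsCyclic.exists_generator (α := Eˣ)
  have hog : orderOf g = q ^ J - 1 := by rw [← hcE]; exact orderOf_eq_card_of_forall_mem_zpowers hg
  set r := ∑ i ∈ Finset.range J, q ^ i with hr
  have hfac : q ^ J - 1 = (q - 1) * r := by
    rw [hr, mul_comm]
    have := geom_sum_mul_add (q - 1) J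
    rw [show q - 1 + 1 = q by omega] at this
    omega
  set u := g ^ (q - 1) with hu
  have hou : orderOf u = r := by
    rw [hu, orderOf_pow' _ (by omega), hog, hfac, Nat.gcd_comm, Nat.gcd_mul_right_right, Nat.mul_div_cancel_left _ (by omega)]
  have hrlow : q ^ (J - 1) + 1 < r := by
    rw [hr]
    obtain ⟨k, rfl⟩ : ∃ k, J = k + 3 := ⟨J - 3, by omega⟩
    rw [show k + 3 - 1 = k + 2 by omega, Finset.sum_range_succ, Finset.sum_range_succ']
    have : 0 < ∑ i ∈ Finset.range (k + 1), q ^ (i + 1) :=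
      Finset.sum_pos (fun i _ => pow_pos (by omega) _) (by simp)
    simp only [pow_zero]
    omega
  set α : E := (u : E) with hαdef
  have hoα : orderOf α = r := by rw [hαdef, orderOf_units, hou]
  have hα0 : α ≠ 0 := u.ne_zero
  have hint : IsIntegral K α := IsIntegral.of_finite K α
  set f := minpoly K α with hf
  have hirr : Irreducible f := minpoly.irreducible hint
  have hmon : f.Monic := minpoly.monic hint
  haveI : Fact (Irreducible f) := ⟨hirr⟩
  set pb := AdjoinRoot.powerBasis hirr.ne_zero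
  haveI : Module.Finite K (AdjoinRoot f) := pb.finite
  haveI : Finite (AdjoinRoot f) := Module.finite_of_finite K
  set d := f.natDegree
  have hk : Module.finrank K (AdjoinRoot f) = d := by rw [pb.finrank, AdjoinRoot.powerBasis_dim]
  have hcL : Nat.card (AdjoinRoot f) = q ^ d := by
    rw [Module.natCard_eq_pow_finrank (K := K), hk, Nat.card_eq_fintype_card]
  set x := AdjoinRoot.root f
  have hox : orderOf x = r := by
    let φ := AdjoinRoot.liftAlgHom f (Algebra.ofId K E) α (minpoly.aeval K α)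
    rw [← hoα, ← orderOf_injective (φ : AdjoinRoot f →* E) φ.toRingHom.injective x]
    exact congrArg orderOf (AdjoinRoot.liftAlgHom_root (p := f) (Algebra.ofId K E) α (minpoly.aeval K α))
  have hx0 : x ≠ 0 := fun e => by
    have := hox; rw [e, orderOf_zero] at this; omega
  have hd0 : 0 < d := minpoly.natDegree_pos hint
  have hdJ : d = J := by
    have hle : d ≤ J := by
      have h1 := minpoly.natDegree_le (A := K) (x := α)
      have h2 : Module.finrank K E = J := by
        have h1 := Module.natCard_eq_pow_finrank (K := K) (V := E)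
        rw [FiniteField.natCard_extension] at h1
        exact (Nat.pow_right_injective (Finite.one_lt_card (α := K)) h1).symm
      change d ≤ _ at h1
      omega
    by_contra hne
    letI : Fintype (AdjoinRoot f) := Fintype.ofFinite _
    have h1 := FiniteField.pow_card_sub_one_eq_one x hx0
    rw [Fintype.card_eq_nat_card, hcL] at h1
    have h2 := Nat.le_of_dvd (Nat.sub_pos_of_lt (Nat.one_lt_pow hd0.ne' hq1)) (hox ▸ orderOf_dvd_of_pow_eq_one h1)
    have h3 : q ^ d ≤ q ^ (J - 1) := Nat.pow_le_pow_right (by omega) (by omega)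
    omega
  refine ⟨f, hirr, hmon, hdJ, ?_, ?_⟩
  · have h1 : Algebra.norm K x = (-1) ^ d * f.coeff 0 := by
      have h := Algebra.PowerBasis.norm_gen_eq_coeff_zero_minpoly pb
      rwa [AdjoinRoot.minpoly_powerBasis_gen_of_monic hmon, AdjoinRoot.powerBasis_gen, AdjoinRoot.powerBasis_dim] at h
    rw [cd, ← h1]
    apply (algebraMap K (AdjoinRoot f)).injective
    rw [FiniteField.algebraMap_norm_eq_pow, map_one, hcL, hdJ, Nat.card_eq_fintype_card, ← hq, hfac,
      Nat.mul_div_cancel_left _ (by omega), ← hox, pow_orderOf_eq_one]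
  · refine hirr.coprime_iff_not_dvd.2 fun hdvd => ?_
    have hinv : aeval x⁻¹ (f.map σ) = 0 := by
      let _ : Invertible x := invertibleOfNonzero hx0
      have hroot : aeval x (f.map σ).reverse = 0 := by
        obtain ⟨t, ht⟩ := hdvd
        rw [trev] at ht
        rw [ht, map_mul, AdjoinRoot.aeval_eq, AdjoinRoot.mk_self, zero_mul]
      let _ : Invertible x⁻¹ := invertibleOfNonzero (inv_ne_zero hx0)
      refine (eval₂_reverse_eq_zero_iff (algebraMap K (AdjoinRoot f)) x⁻¹ (f.map σ)).1 ?_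
      rw [invOf_eq_inv, inv_inv, ← aeval_def, hroot]
    haveI : CharP K 2 := charP_of_card_eq_prime_pow (f := 2) (by show q = _; rw [h4]; norm_num)
    haveI : CharP (AdjoinRoot f) 2 := charP_of_injective_algebraMap (algebraMap K (AdjoinRoot f)).injective 2
    obtain ⟨y, hy⟩ : ∃ y : AdjoinRoot f, y ^ 2 = x⁻¹ :=
      ((PerfectRing.ofFiniteOfIsReduced 2 (AdjoinRoot f)).bijective_frobenius).2 x⁻¹
    have hy0 : aeval y f = 0 := by
      refine pow_eq_zero_iff (n := 2) two_ne_zero |>.1 ?_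
      rw [← hinv, ← hy, aeval_sq hσ]
    obtain ⟨⟨i, hi⟩, hiσ⟩ := (FiniteField.bijective_frobeniusAlgHom_pow K (AdjoinRoot f)).2
      (AdjoinRoot.liftAlgHom f (Algebra.ofId K _) y hy0)
    have hy' : x ^ q ^ i = y := by
      have := DFunLike.congr_fun hiσ x
      simp only [x] at this ⊢
      replace this := this.trans (AdjoinRoot.liftAlgHom_root (p := f) (Algebra.ofId K _) _ hy0)
      simpa [hq, AlgHom.coe_pow, FiniteField.coe_frobeniusAlgHom, pow_iterate] using this
    rw [hk] at hi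
    have h1 : x ^ (q ^ i * 2 + 1) = 1 := by rw [pow_succ, pow_mul, hy', hy, inv_mul_cancel₀ hx0]
    obtain ⟨k, hk2⟩ := hox ▸ orderOf_dvd_of_pow_eq_one h1
    obtain ⟨J', hJ'⟩ : ∃ J', J = J' + 1 := ⟨J - 1, by omega⟩
    have hq4 : q = 4 := h4
    have hr3 : 3 * r + 1 = 4 * 4 ^ J' := by
      have h := hfac
      rw [hq4, hJ', pow_succ] at h
      have : 0 < 4 ^ J' := pow_pos (by norm_num) _
      omega
    have hp3 : 4 ^ i ≤ 4 ^ J' := Nat.pow_le_pow_right (by norm_num) (by omega)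
    rw [hq4] at hk2
    rcases Nat.lt_or_ge k 2 with hk1 | hk1
    · interval_cases k
      · omega
      · rcases (by omega : i = J' ∨ i < J') with e | e
        · subst e; omega
        · have : 4 * 4 ^ i ≤ 4 ^ J' := by rw [← pow_succ']; exact Nat.pow_le_pow_right (by norm_num) e
          omega
    · have : r * 2 ≤ r * k := Nat.mul_le_mul_left _ hk1
      omega


end H31.Com.Uni
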