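import Cfsg.Agent.H31.Unitary.Letters
import Cfsg.Agent.H13.Uni.Norm

/-!
Commutator factorisations in `SL_m` over four elements.
-/

set_option autoImplicit false
set_option maxRecDepth 100000
set_option linter.unusedSectionVars false
set_option linter.style.longLine false

namespace H31.Com.Uni

open Matrix Polynomial
open H89.CN (Sim Dec rComp)
open H31.Com

/-- The requirements on an irreducible quadratic. -/
def quadOK (m : List ℕ) : Bool :=
  if m.getD 0 0 == 1 then
    has D4.good [m] pool && hasP D4.good [[1], m] && hasP D4.good [[2], [2], [2], m] && hasP D4.good [[3], [3], [3], m]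
  else
    let u := m.getD 0 0
    let v := 5 - u
    (u == 2 || u == 3) && hasP D4.fquad [[v], m] && hasP D4.fquad [[u], [u], m] && hasP D4.fquad [[u], m, m] &&
      hasP D4.fquad [m, m, m] && hasP D4.fquad [[v], [1], m] && hasP D4.fquad [[u], [u], [1], m] &&
      hasP D4.fquad [[u], [1], m, m] && hasP D4.fquad [[1], m, m, m] &&
      hasP D4.fquad [[u], [u], [u], [u], [u], m] && hasP D4.fquad [[v], [v], [v], [v], m]

/-- The requirements on an irreducible cubic. -/
def cubOK (m : List ℕ) : Bool :=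
  if m.getD 0 0 == 1 then has D4.solo3 [m] [[1,1,0]]
  else
    let u := m.getD 0 0
    let v := 5 - u
    (u == 2 || u == 3) && hasP D4.fcub [[v], m] && hasP D4.fcub [[u], [u], m] && hasP D4.fcub [[u], m, m] &&
      hasP D4.fcub [m, m, m]

theorem quad_all : ((allV 4 2).filter noRoot).all quadOK = true := by decide +kernel

theorem cub_all : ((allV 4 3).filter noRoot).all cubOK = true := by decide +kernel

theorem sq_all : ([2, 3].all fun c => quadOK [mul4 c c, 0] &&
    has D4.solo3 [[1, mul4 c c, c]] [[1,1,0]] && hasP D4.good [[c], [c], [c], [1, mul4 c c, c]]) = true := by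
  decide +kernel

variable {K : Type*} [Field K] [Fintype K] {a : K} [Omega a] {σ : K →+* K} {φ : ℕ → K[X]}

theorem dec_degree : ∀ {l : List K[X]} {n : ℕ} {A : Matrix (Fin n) (Fin n) K}, Dec A l → n = (l.map natDegree).sum
  | [], n, A, h => by
    obtain rfl : n = 0 := h
    simp
  | f :: l, n, A, ⟨_, _, N, e, A₂, _, h2⟩ => by
    have := Fintype.card_congr e
    rw [List.map_cons, List.sum_cons, ← dec_degree h2]
    simpa using this.symm

theorem omega_ne_one : a ≠ 1 ∧ a ^ 2 ≠ 1 ∧ a ^ 3 = 1 := by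
  have h := Omega.root (a := a)
  have h2 := omega_two a
  refine ⟨fun e => one_ne_zero (α := K) ?_, fun e => ?_, ?_⟩
  · rw [e] at h; linear_combination -h
  · refine emb_ne_zero (a := a) (x := 2) (by decide) ?_
    show a = 0
    linear_combination e - h - h2 + h2
  · linear_combination (a + 1) * h + a * h2

theorem pow_mod_three {n : ℕ} (h : a ^ n = 1) : n % 3 = 0 := by
  obtain ⟨h1, h2, h3⟩ := omega_ne_one (a := a)
  rw [← Nat.div_add_mod n 3, pow_add, pow_mul, h3, one_pow, one_mul] at h
  rcases (by omega : n % 3 = 0 ∨ n % 3 = 1 ∨ n % 3 = 2) with e | e | e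
  · exact e
  · rw [e, pow_one] at h; exact absurd h h1
  · rw [e] at h; exact absurd h h2

theorem emb_pow {n : ℕ} (hn : n = 1 ∨ n = 2 ∨ n = 3) : emb a n = a ^ (n - 1) := by
  rcases hn with rfl | rfl | rfl
  · simp
  · simp [emb]
  · show a + 1 = a ^ 2
    rw [sq, Omega.root (a := a)]

theorem prod_items {n : ℕ} (hn : n = 1 ∨ n = 2 ∨ n = 3) {fs : List K[X]} (h : ∀ f ∈ fs, Item a n f) :
    (fs.map cd).prod = a ^ ((n - 1) * fs.length) := by
  induction fs with
  | nil => simp
  | cons f fs ih =>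
    rw [List.map_cons, List.prod_cons, ih fun g hg => h g (List.mem_cons_of_mem _ hg), (h f (by simp)).2.1, emb_pow hn,
      ← pow_add, List.length_cons]
    ring_nf

theorem cd_code {m : List ℕ} (hm : 0 < m.length) {n : ℕ} (h : (m.getD 0 0) = n) (hn : n = 1 ∨ n = 2 ∨ n = 3) (k : ℕ) :
    ((List.replicate k (bpoly a m)).map cd).prod = a ^ ((n - 1) * k) := by
  rw [List.map_replicate, List.prod_replicate, cd_bpoly hm, h, emb_pow hn, pow_mul]

theorem not_coprime_self {f : K[X]} (hd : 0 < f.natDegree) : ¬ IsCoprime f f := fun h => by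
  rw [isCoprime_self] at h
  have := natDegree_eq_zero_of_isUnit h
  omega

theorem base_eq {p q : K[X]} {e e' : ℕ} (hp : p.Monic) (hpi : Irreducible p) (hq : q.Monic) (hqi : Irreducible q)
    (h : ¬ IsCoprime (p ^ e) (q ^ e')) : p = q := by
  by_contra hne
  refine h (IsCoprime.pow ((hpi.coprime_iff_not_dvd).2 fun hd => hne ?_))
  exact eq_of_monic_of_associated hp hq (hpi.associated_of_dvd hqi hd)

variable (hK : ∀ x : K, x ^ 4 = x) (hφ : Chosen4 σ φ)
include hK hφ

/-- The base group in both orientations. -/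
theorem base2 {G os us vs : List K[X]} (hG : Good a φ G) (ho : ∀ f ∈ os, Item a 1 f) (hu : ∀ f ∈ us, Item a 2 f)
    (hv : ∀ f ∈ vs, Item a 3 f) (hmod : us.length % 3 = vs.length % 3)
    (h1 : os = [bpoly a [1]] → us = [] → vs = [] → Good a φ (G ++ [bpoly a [1]]))
    (h3 : os = [] → ∀ w, (w = 2 ∨ w = 3) → us ++ vs = List.replicate (us ++ vs).length (bpoly a [w]) →
      us ++ vs ≠ [] → Good a φ (G ++ bpolys a [[w], [w], [w]])) :
    Good a φ (G ++ os ++ us ++ vs) := by
  rcases le_total vs.length us.length with hle | hle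
  · exact base hK hφ (Or.inl ⟨rfl, rfl⟩) hG ho hu hv hle hmod h1 fun e e' h hne => by
      subst e'
      exact h3 e 2 (Or.inl rfl) (by simpa using h) (by simpa using hne)
  · refine (base hK hφ (Or.inr ⟨rfl, rfl⟩) hG ho hv hu hle hmod.symm (fun e e' e'' => h1 e e'' e') fun e e' h hne => by
      subst e'
      exact h3 e 3 (Or.inr rfl) (by simpa using h) (by simpa using hne)).perm (perm_of_mset ?_)
    simp only [← Multiset.coe_add]
    abel

/-- A quadratic or cubic block of determinant not one among items. -/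
theorem fcase2 {t : List (List (List ℕ) × List (List ℕ) × Wit)} {m : List ℕ} (hm : 0 < m.length) {u v : ℕ}
    (h0 : m.getD 0 0 = u) (huv : (u = 2 ∧ v = 3) ∨ (u = 3 ∧ v = 2)) (hF : FKeys t m u v) {G0 os us vs : List K[X]}
    (hG0 : Good a φ G0) (h0' : (G0.map cd).prod = 1) (ho : ∀ f ∈ os, Item a 1 f) (hu : ∀ f ∈ us, Item a 2 f)
    (hv : ∀ f ∈ vs, Item a 3 f) {k : ℕ} (hk : 0 < k)
    (hprod : (((G0 ++ List.replicate k (bpoly a m)) ++ os ++ us ++ vs).map cd).prod = 1)
    (hl1 : bpoly a [1] ∈ os → hasP t [[v], [1], m] = true ∧ hasP t [[u], [u], [1], m] = true ∧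
      hasP t [[u], [1], m, m] = true ∧ hasP t [[1], m, m, m] = true)
    (hlu : bpoly a [u] ∈ us ++ vs → hasP t [[u], [u], [u], [u], [u], m] = true)
    (hlv : bpoly a [v] ∈ us ++ vs → hasP t [[v], [v], [v], [v], m] = true) :
    Good a φ (G0 ++ List.replicate k (bpoly a m) ++ os ++ us ++ vs) := by
  simp only [List.map_append, List.prod_append, h0', cd_code hm h0 (by omega), prod_items (a := a) (Or.inl rfl) ho,
    prod_items (a := a) (Or.inr (Or.inl rfl)) hu, prod_items (a := a) (Or.inr (Or.inr rfl)) hv, one_mul, ← pow_add] at hprod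
  have := pow_mod_three hprod
  rcases huv with ⟨rfl, rfl⟩ | ⟨rfl, rfl⟩
  · exact fcase hK hφ (Or.inl ⟨rfl, rfl⟩) hF hG0 ho hu hv hk (by omega) hl1
      (fun h => hlu (List.mem_append_left _ h)) fun h => hlv (List.mem_append_right _ h)
  · refine (fcase hK hφ (Or.inr ⟨rfl, rfl⟩) hF hG0 ho hv hu hk (by omega) hl1
      (fun h => hlu (List.mem_append_right _ h)) fun h => hlv (List.mem_append_left _ h)).perm (perm_of_mset ?_)
    simp only [← Multiset.coe_add]
    abel

/-- **Every determinant one list is good.** -/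
theorem good_all {n : ℕ} (hn : 4 ≤ n) {A : Matrix (Fin n) (Fin n) K} (hdet : A.det = 1) (hns : ∀ μ : K, A ≠ μ • 1) :
    ∃ l, Dec A l ∧ Good a φ l := by
  classical
  obtain ⟨l, hA, hprod, hl, hpair⟩ := H13.Uni.exists_normal A (by rw [hdet]; exact one_ne_zero)
  rw [hdet] at hprod
  refine ⟨l, hA, ?_⟩
  have hdeg : 4 ≤ (l.map natDegree).sum := by rw [← dec_degree hA]; exact hn
  have hnc : ∀ f ∈ l, ∀ g ∈ l, f.natDegree ≤ 3 → g.natDegree ≤ 3 → 4 ≤ f.natDegree + g.natDegree → ¬ IsCoprime f g := by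
    intro f hf g hg h1 h2 h3
    by_cases hfg : f = g
    · subst hfg; exact not_coprime_self (hl f hf).2.1
    · obtain ⟨i, hi, rfl⟩ := List.mem_iff_getElem.1 hf
      obtain ⟨i', hi', rfl⟩ := List.mem_iff_getElem.1 hg
      rcases lt_trichotomy i i' with h | rfl | h
      · exact List.pairwise_iff_getElem.1 hpair i i' hi hi' h h1 h2 h3
      · exact absurd rfl hfg
      · exact fun e => List.pairwise_iff_getElem.1 hpair i' i hi' hi h h2 h1 (by omega) e.symm
  set isS : K[X] → Bool := fun f => decide (2 ≤ f.natDegree ∧ f.natDegree ≤ 3) with hisS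
  set S := l.filter isS with hS
  set L := l.filter (fun f => !isS f) with hL
  have hperm : l.Perm (S ++ L) := (List.filter_append_perm isS l).symm
  have hSl : ∀ f ∈ S, f ∈ l ∧ 2 ≤ f.natDegree ∧ f.natDegree ≤ 3 := fun f hf => by
    simpa [hS, hisS] using hf
  have hLl : ∀ f ∈ L, f ∈ l ∧ (f.natDegree = 1 ∨ 4 ≤ f.natDegree) := fun f hf => by
    have h := List.mem_filter.1 hf
    refine ⟨h.1, ?_⟩
    have := (hl f h.1).2.1
    have h2 := h.2
    simp [hisS] at h2
    omega
  have hitem : ∀ f ∈ L, Item a 1 f ∨ Item a 2 f ∨ Item a 3 f := by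
    intro f hf
    obtain ⟨hfl, hd⟩ := hLl f hf
    obtain ⟨hm, hd0, h0, -⟩ := hl f hfl
    obtain ⟨c, hc, hce⟩ := emb_surj (a := a) hK (cd f)
    have hc0 : cd f ≠ 0 := by rw [cd]; exact mul_ne_zero (pow_ne_zero _ (by simp)) h0
    interval_cases c
    · exact absurd hce.symm hc0
    · exact Or.inl ⟨hm, hce.symm, h0, hd⟩
    · exact Or.inr (Or.inl ⟨hm, hce.symm, h0, hd⟩)
    · exact Or.inr (Or.inr ⟨hm, hce.symm, h0, hd⟩)
  obtain ⟨os, us, vs, hLp, ho, hu, hv⟩ : ∃ os us vs : List K[X], L.Perm (os ++ us ++ vs) ∧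
      (∀ f ∈ os, Item a 1 f) ∧ (∀ f ∈ us, Item a 2 f) ∧ (∀ f ∈ vs, Item a 3 f) := by
    clear_value L
    clear hperm hLl hL
    induction L with
    | nil => exact ⟨[], [], [], List.Perm.nil, by simp, by simp, by simp⟩
    | cons f L ih =>
      obtain ⟨os, us, vs, hp, ho, hu, hv⟩ := ih fun g hg => hitem g (List.mem_cons_of_mem _ hg)
      rcases hitem f (by simp) with h | h | h
      · exact ⟨f :: os, us, vs, by simpa using hp.cons f, by simpa using ⟨h, ho⟩, hu, hv⟩
      · refine ⟨os, f :: us, vs, (hp.cons f).trans (perm_of_mset ?_), ho, by simpa using ⟨h, hu⟩, hv⟩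
        simp only [← Multiset.coe_add, ← Multiset.cons_coe, ← Multiset.singleton_add]
        abel
      · refine ⟨os, us, f :: vs, (hp.cons f).trans (perm_of_mset ?_), ho, hu, by simpa using ⟨h, hv⟩⟩
        simp only [← Multiset.coe_add, ← Multiset.cons_coe, ← Multiset.singleton_add]
        abel
  have hlp : l.Perm (S ++ os ++ us ++ vs) := hperm.trans (by simpa [List.append_assoc] using hLp.append_left S)
  suffices Good a φ (S ++ os ++ us ++ vs) from this.perm hlp.symm
  have hmem : ∀ f ∈ os ++ us ++ vs, f ∈ L := fun f hf => hLp.symm.subset hf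
  have hprod' : ((S ++ os ++ us ++ vs).map cd).prod = 1 := by rw [← (hlp.map cd).prod_eq]; exact hprod
  have hdeg' : 4 ≤ ((S ++ os ++ us ++ vs).map natDegree).sum := by rw [← (hlp.map natDegree).sum_eq]; exact hdeg
  have hscalar : ∀ w, (w = 1 ∨ w = 2 ∨ w = 3) → ¬ ((S ++ os ++ us ++ vs) = List.replicate (S ++ os ++ us ++ vs).length (bpoly a [w])) := by
    intro w _ h
    rw [h] at hlp
    have e : bpoly a [w] = X - C (emb a w) := by
      rw [bpoly]
      simp [ofE, sub_eq_add_neg, ← C_neg, omega_neg a (emb a w), add_comm]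
    exact hns _ (H13.Uni.scalar_of_dec _ A (e ▸ dec_perm hlp hA))
  have hbal : (S.map cd).prod = 1 → us.length % 3 = vs.length % 3 := by
    intro h
    simp only [List.map_append, List.prod_append, h, prod_items (a := a) (Or.inl rfl) ho,
      prod_items (a := a) (Or.inr (Or.inl rfl)) hu, prod_items (a := a) (Or.inr (Or.inr rfl)) hv, one_mul, ← pow_add] at hprod'
    have := pow_mod_three hprod'
    omega
  rcases hSe : S with _ | ⟨s₀, S'⟩
  · -- only items
    rw [hSe] at hbal hscalar hdeg'
    refine base2 hK hφ Good.nil ho hu hv (hbal (by simp)) (fun e e' e'' => ?_) fun e w hw hrep hne => ?_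
    · rw [e, e', e''] at hdeg'
      simp [bpoly_natDegree] at hdeg'
    · exact absurd (by simpa [e] using hrep) (hscalar w (Or.inr hw))
  have hs₀ : s₀ ∈ S := by rw [hSe]; simp
  obtain ⟨hs₀l, hs₀2, hs₀3⟩ := hSl s₀ hs₀
  obtain ⟨p, e, hpm, hpi, he, hpe⟩ := (hl s₀ hs₀l).2.2.2 hs₀3
  have hbase : ∀ f ∈ l, f.natDegree ≤ 3 → 4 ≤ s₀.natDegree + f.natDegree → ∃ e', 0 < e' ∧ f = p ^ e' := by
    intro f hf h3 h4
    obtain ⟨q, e', hqm, hqi, he', rfl⟩ := (hl f hf).2.2.2 h3
    have := hnc s₀ hs₀l _ hf hs₀3 h3 h4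
    rw [hpe] at this
    rw [base_eq hpm hpi hqm hqi this]
    exact ⟨e', he', rfl⟩
  have hSp : ∀ f ∈ S, ∃ e', 0 < e' ∧ f = p ^ e' ∧ e' * p.natDegree ≤ 3 ∧ 2 ≤ e' * p.natDegree := fun f hf => by
    obtain ⟨hfl, h2, h3⟩ := hSl f hf
    obtain ⟨e', he', rfl⟩ := hbase f hfl h3 (by omega)
    rw [natDegree_pow] at h2 h3
    exact ⟨e', he', rfl, h3, h2⟩
  have hpd : 0 < p.natDegree := hpi.natDegree_pos
  rw [← hSe]
  rcases (by
    obtain ⟨e', he', -, h3, -⟩ := hSp s₀ hs₀
    have : p.natDegree ≤ e' * p.natDegree := Nat.le_mul_of_pos_left _ he'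
    omega : p.natDegree = 1 ∨ p.natDegree = 2 ∨ p.natDegree = 3) with hp1 | hp2 | hp3
  rotate_left
  · -- an irreducible quadratic
    obtain ⟨m, hm, hml, rfl⟩ := exists_code4 (a := a) hK hpm hp2
    have hrep : S = List.replicate S.length (bpoly a m) := List.eq_replicate_iff.2 ⟨rfl, fun f hf => by
      obtain ⟨e', he', rfl, h3, -⟩ := hSp f hf
      rw [hp2] at h3
      rw [show e' = 1 by omega, pow_one]⟩
    have hroot : noRoot m = true := List.all_eq_true.2 fun x _ => by
      have h := no_root_of_irreducible hpi (by omega) (emb a x)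
      rw [bpoly, eval_ofE] at h
      simp only [bne_iff_ne, ne_eq]
      exact fun e0 => h (by rw [← emb_mod, e0, emb_zero])
    have hq := List.all_eq_true.1 quad_all m (List.mem_filter.2 ⟨hm, hroot⟩)
    rw [hrep] at hprod' hbal ⊢
    obtain ⟨k, hk⟩ : ∃ k, S.length = k + 1 := ⟨S'.length, by rw [hSe]; simp⟩
    rw [hk] at hprod' hbal ⊢
    rw [quadOK] at hq
    split at hq
    · rename_i h1
      simp only [beq_iff_eq] at h1
      simp only [Bool.and_eq_true] at hq
      obtain ⟨⟨⟨q1, q2⟩, q3⟩, q4⟩ := hq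
      have g0 : Good a φ (bpolys a [m]) := good_key D4.good_ok q1
      have hG : ∀ j, Good a φ (List.replicate j (bpoly a m)) := fun j => by
        induction j with
        | zero => exact Good.nil
        | succ j ih => exact g0.append ih
      refine base2 hK hφ (hG _) ho hu hv (hbal ?_) (fun _ _ _ => ?_) fun _ w hw _ _ => ?_
      · rw [cd_code (by omega) h1 (Or.inl rfl)]; simp
      · have g1 : Good a φ (bpolys a [m] ++ [bpoly a [1]]) :=
          good_with hK hφ D4.good_ok (List.Forall₂.cons (item_bpoly (by decide)) List.Forall₂.nil) (by simpa using q2)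
        refine (g1.append (hG k)).perm (perm_of_mset ?_)
        simp only [bpolys, List.map_cons, List.map_nil, List.replicate_succ, ← Multiset.coe_add, ← Multiset.cons_coe,
          ← Multiset.singleton_add, Multiset.coe_nil, add_zero]
        abel
      · have iw : Item a w (bpoly a [w]) := item_bpoly (by rcases hw with rfl | rfl <;> decide)
        have g1 : Good a φ (bpolys a [m] ++ [bpoly a [w], bpoly a [w], bpoly a [w]]) :=
          good_with hK hφ D4.good_ok (List.Forall₂.cons iw (List.Forall₂.cons iw (List.Forall₂.cons iw List.Forall₂.nil)))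
            (by rcases hw with rfl | rfl <;> simpa using (by assumption))
        refine (g1.append (hG k)).perm (perm_of_mset ?_)
        simp only [bpolys, List.map_cons, List.map_nil, List.replicate_succ, ← Multiset.coe_add, ← Multiset.cons_coe,
          ← Multiset.singleton_add, Multiset.coe_nil, add_zero]
        abel
    · simp only [Bool.and_eq_true, Bool.or_eq_true, beq_iff_eq] at hq
      obtain ⟨⟨⟨⟨⟨⟨⟨⟨⟨⟨q0, q1⟩, q2⟩, q3⟩, q4⟩, q5⟩, q6⟩, q7⟩, q8⟩, q9⟩, q10⟩ := hq
      have := fcase2 (a := a) hK hφ (m := m) (by omega) rfl (v := 5 - m.getD 0 0) (by omega)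
        ⟨D4.fquad_ok, q1, q2, q3, q4⟩ (G0 := []) Good.nil (by simp) ho hu hv (k := k + 1) (by omega)
        (by simpa using hprod') (fun _ => ⟨q5, q6, q7, q8⟩) (fun _ => q9) (fun _ => q10)
      simpa using this
  · -- an irreducible cubic
    obtain ⟨m, hm, hml, rfl⟩ := exists_code4 (a := a) hK hpm hp3
    have hrep : S = List.replicate S.length (bpoly a m) := List.eq_replicate_iff.2 ⟨rfl, fun f hf => by
      obtain ⟨e', he', rfl, h3, -⟩ := hSp f hf
      rw [hp3] at h3
      rw [show e' = 1 by omega, pow_one]⟩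
    have hroot : noRoot m = true := List.all_eq_true.2 fun x _ => by
      have h := no_root_of_irreducible hpi (by omega) (emb a x)
      rw [bpoly, eval_ofE] at h
      simp only [bne_iff_ne, ne_eq]
      exact fun e0 => h (by rw [← emb_mod, e0, emb_zero])
    have hs3 : s₀.natDegree = 3 := by
      obtain ⟨e', he', -, h3, -⟩ := hSp s₀ hs₀
      have : 3 ≤ s₀.natDegree := by
        rw [hpe, natDegree_pow, hp3]; omega
      omega
    have hnolin : ∀ f ∈ os ++ us ++ vs, f.natDegree ≠ 1 := fun f hf h1 => by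
      obtain ⟨hfl, -⟩ := hLl f (hmem f hf)
      obtain ⟨e', he', rfl⟩ := hbase f hfl (by omega) (by omega)
      rw [natDegree_pow, hp3] at h1
      omega
    have hnl : ∀ w, bpoly a [w] ∉ os ++ us ++ vs := fun w h => hnolin _ h (by rw [bpoly_natDegree]; simp)
    have hq := List.all_eq_true.1 cub_all m (List.mem_filter.2 ⟨hm, hroot⟩)
    rw [hrep] at hprod' hbal ⊢
    rw [cubOK] at hq
    split at hq
    · rename_i h1
      simp only [beq_iff_eq] at h1
      refine base2 hK hφ (j3_good hK hφ hq _) ho hu hv (hbal ?_) (fun e _ _ => ?_) fun _ w _ e hne => ?_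
      · rw [cd_code (by omega) h1 (Or.inl rfl)]; simp
      · exact absurd (by rw [e]; simp) (hnl 1)
      · exact absurd (by rw [List.append_assoc]; exact List.mem_append_right _ (item_mem_replicate e hne)) (hnl w)
    · simp only [Bool.and_eq_true, Bool.or_eq_true, beq_iff_eq] at hq
      obtain ⟨⟨⟨⟨q0, q1⟩, q2⟩, q3⟩, q4⟩ := hq
      have := fcase2 (a := a) hK hφ (m := m) (by omega) rfl (v := 5 - m.getD 0 0) (by omega)
        ⟨D4.fcub_ok, q1, q2, q3, q4⟩ (G0 := []) Good.nil (by simp) ho hu hv (k := S.length) (by rw [hSe]; simp)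
        (by simpa using hprod') (fun h => absurd (by simp [h]) (hnl 1))
        (fun h => absurd (by rw [List.append_assoc]; exact List.mem_append_right _ h) (hnl _))
        (fun h => absurd (by rw [List.append_assoc]; exact List.mem_append_right _ h) (hnl _))
      simpa using this
  -- a linear base
  obtain ⟨pc, hpc, hpcl, rfl⟩ := exists_code4 (a := a) hK hpm hp1
  obtain ⟨c, rfl⟩ : ∃ c, pc = [c] := by
    match pc, hpcl with
    | [c], _ => exact ⟨c, rfl⟩
  have hc4 : c < 4 := by
    simp [allV, List.mem_flatMap] at hpc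
    exact hpc
  have hc0 : c ≠ 0 := by
    rintro rfl
    have := (hl s₀ hs₀l).2.2.1
    rw [hpe, coeff_zero_eq_eval_zero, eval_pow, ← coeff_zero_eq_eval_zero, bpoly, coeff_ofE] at this
    simp [he.ne'] at this
  have hcc : c = 1 ∨ c = 2 ∨ c = 3 := by omega
  have hP : (bpoly a [c]) ^ 2 = bpoly a [mul4 c c, 0] ∧ (bpoly a [c]) ^ 3 = bpoly a [1, mul4 c c, c] := by
    constructor
    · rw [sq, bpoly, bpoly, ← ofE_mulP]
      exact ofE_eq_of_eqP (by rcases hcc with rfl | rfl | rfl <;> decide)
    · rw [pow_succ, sq, bpoly, bpoly, ← ofE_mulP, ← ofE_mulP]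
      exact ofE_eq_of_eqP (by rcases hcc with rfl | rfl | rfl <;> decide)
  obtain ⟨k, j, hSperm, hkj⟩ : ∃ k j, S.Perm (List.replicate k (bpoly a [mul4 c c, 0]) ++
      List.replicate j (bpoly a [1, mul4 c c, c])) ∧ 0 < k + j := by
    refine ⟨(S.filter fun f => decide (f.natDegree = 2)).length, (S.filter fun f => !decide (f.natDegree = 2)).length,
      ?_, ?_⟩
    · refine (List.filter_append_perm (fun f => decide (f.natDegree = 2)) S).symm.trans (List.Perm.of_eq ?_)
      congr 1
      · refine List.eq_replicate_iff.2 ⟨rfl, fun f hf => ?_⟩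
        obtain ⟨h1, h2⟩ := List.mem_filter.1 hf
        obtain ⟨e', -, rfl, -, -⟩ := hSp f h1
        simp only [decide_eq_true_eq, natDegree_pow, hp1, mul_one] at h2
        rw [h2, hP.1]
      · refine List.eq_replicate_iff.2 ⟨rfl, fun f hf => ?_⟩
        obtain ⟨h1, h2⟩ := List.mem_filter.1 hf
        obtain ⟨e', -, rfl, h3, h4⟩ := hSp f h1
        simp only [Bool.not_eq_true', decide_eq_false_iff_not, natDegree_pow, hp1, mul_one] at h2 h3 h4
        rw [show e' = 3 by omega, hP.2]
    · have := (List.filter_append_perm (fun f => decide (f.natDegree = 2)) S).length_eq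
      rw [List.length_append, hSe] at this
      rw [hSe]
      simp only [List.length_cons] at this
      omega
  have hJlin : 0 < j → ∀ w, (w = 1 ∨ w = 2 ∨ w = 3) → bpoly a [w] ∈ os ++ us ++ vs → w = c := by
    intro hj w hw hmemw
    have hJ : bpoly a [1, mul4 c c, c] ∈ S := hSperm.symm.subset (by
      obtain ⟨j', rfl⟩ : ∃ j', j = j' + 1 := ⟨j - 1, by omega⟩
      simp [List.replicate_succ])
    obtain ⟨hJl, -, -⟩ := hSl _ hJ
    obtain ⟨hwl, -⟩ := hLl _ (hmem _ hmemw)
    obtain ⟨q, e', hqm, hqi, he', hqe⟩ := (hl _ hwl).2.2.2 (by rw [bpoly_natDegree]; simp)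
    have h := hnc _ hJl _ hwl (by rw [bpoly_natDegree]; simp) (by rw [bpoly_natDegree]; simp)
      (by rw [bpoly_natDegree, bpoly_natDegree]; simp)
    rw [← hP.2, hqe] at h
    have hqc := base_eq hpm hpi hqm hqi h
    have hd := congrArg natDegree hqe
    rw [natDegree_pow, ← hqc, bpoly_natDegree, bpoly_natDegree] at hd
    simp at hd
    rw [← hd, pow_one, ← hqc] at hqe
    have := emb_inj (a := a) (x := w) (y := c) (by
      have := congrArg (fun f => f.coeff 0) hqe
      simpa [bpoly, coeff_ofE] using this)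
    omega
  have hSG : (((List.replicate j (bpoly a [1, mul4 c c, c]))).map cd).prod = 1 := by
    rw [cd_code (by simp) (n := 1) (by simp) (Or.inl rfl)]; simp
  suffices Good a φ ((List.replicate k (bpoly a [mul4 c c, 0]) ++ List.replicate j (bpoly a [1, mul4 c c, c])) ++ os ++ us ++ vs) from
    this.perm (((hSperm.append_right os).append_right us).append_right vs).symm
  have hprod'' := ((((hSperm.append_right os).append_right us).append_right vs).map cd).prod_eq
  rw [hprod'] at hprod''
  rcases hcc with rfl | hc23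
  · -- the unipotent base
    have hm1 : mul4 1 1 = 1 := rfl
    simp only [hm1] at hSperm hSG hprod'' hJlin ⊢
    have hbal' := hbal (by
      rw [(hSperm.map cd).prod_eq, List.map_append, List.prod_append, hSG, cd_code (by simp) (n := 1) (by simp) (Or.inl rfl)]
      simp)
    rcases Nat.eq_zero_or_pos k with rfl | hk
    · obtain ⟨j, rfl⟩ : ∃ j', j = j' + 1 := ⟨j - 1, by omega⟩
      have hG := j3_good (a := a) hK hφ (m := [1,1,1]) (by decide +kernel)
      refine base2 hK hφ (by simpa using hG (j + 1)) ho hu hv hbal' (fun _ _ _ => ?_) fun _ w hw e hne => ?_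
      · have g1 : Good a φ (bpolys a [[1,1,1]] ++ [bpoly a [1]]) :=
          good_with hK hφ D4.good_ok (List.Forall₂.cons (item_bpoly (by decide)) List.Forall₂.nil) (by decide +kernel)
        refine (g1.append (hG j)).perm (perm_of_mset ?_)
        simp only [bpolys, List.map_cons, List.map_nil, List.replicate_succ, List.replicate_zero, List.nil_append,
          ← Multiset.coe_add, ← Multiset.cons_coe, ← Multiset.singleton_add, Multiset.coe_nil, add_zero]
        abel
      · have := hJlin (by omega) w (Or.inr hw) (by rw [List.append_assoc]; exact List.mem_append_right _ (item_mem_replicate e hne))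
        omega
    have hbig : ¬ (k = 1 ∧ j = 0 ∧ (us = [] ∧ vs = []) ∧ (os = [] ∨ os = [bpoly a [1]])) := by
      rintro ⟨rfl, rfl, ⟨h1, h2⟩, h3⟩
      have := ((((hSperm.append_right os).append_right us).append_right vs).map natDegree).sum_eq
      rw [this, h1, h2] at hdeg'
      rcases h3 with rfl | rfl <;> simp [bpoly_natDegree] at hdeg'
    have hno : 0 < j → ∀ w, (w = 2 ∨ w = 3) → bpoly a [w] ∉ us ++ vs := fun hj w hw h => by
      have := hJlin hj w (Or.inr hw) (by rw [List.append_assoc]; exact List.mem_append_right _ h)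
      omega
    rcases le_total vs.length us.length with hle | hle
    · exact jcase hK hφ (Or.inl ⟨rfl, rfl⟩) ho hu hv hle hbal' hk
        (fun hj h => hno hj 2 (Or.inl rfl) (List.mem_append_left _ h))
        fun ⟨e1, e2, e3, e4, e5⟩ => hbig ⟨e1, e2, ⟨e3, e4⟩, e5⟩
    · refine (jcase hK hφ (Or.inr ⟨rfl, rfl⟩) ho hv hu hle hbal'.symm hk
        (fun hj h => hno hj 3 (Or.inr rfl) (List.mem_append_right _ h))
        fun ⟨e1, e2, e3, e4, e5⟩ => hbig ⟨e1, e2, ⟨e4, e3⟩, e5⟩).perm (perm_of_mset ?_)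
      simp only [← Multiset.coe_add]
      abel
  -- the base is not one
  have hsq := List.all_eq_true.1 sq_all c (by simpa using hc23)
  simp only [Bool.and_eq_true] at hsq
  obtain ⟨⟨hqd, hsolo⟩, habs⟩ := hsq
  have hG := j3_good (a := a) hK hφ hsolo
  rcases Nat.eq_zero_or_pos k with rfl | hk
  · obtain ⟨j, rfl⟩ : ∃ j', j = j' + 1 := ⟨j - 1, by omega⟩
    have hbal' := hbal (by rw [(hSperm.map cd).prod_eq, List.map_append, List.prod_append, hSG]; simp)
    refine base2 hK hφ (by simpa using hG (j + 1)) ho hu hv hbal' (fun e _ _ => ?_) fun _ w hw e hne => ?_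
    · have := hJlin (by omega) 1 (Or.inl rfl) (by rw [e]; simp)
      omega
    · obtain rfl := hJlin (by omega) w (Or.inr hw) (by rw [List.append_assoc]; exact List.mem_append_right _ (item_mem_replicate e hne))
      have iw : Item a w (bpoly a [w]) := item_bpoly (by rcases hc23 with rfl | rfl <;> decide)
      have g1 : Good a φ (bpolys a [[1, mul4 w w, w]] ++ [bpoly a [w], bpoly a [w], bpoly a [w]]) :=
        good_with hK hφ D4.good_ok (List.Forall₂.cons iw (List.Forall₂.cons iw (List.Forall₂.cons iw List.Forall₂.nil)))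
          (by simpa using habs)
      refine (g1.append (hG j)).perm (perm_of_mset ?_)
      simp only [bpolys, List.map_cons, List.map_nil, List.replicate_succ, List.replicate_zero, List.nil_append,
        ← Multiset.coe_add, ← Multiset.cons_coe, ← Multiset.singleton_add, Multiset.coe_nil, add_zero]
      abel
  rw [quadOK, if_neg (by rcases hc23 with rfl | rfl <;> decide)] at hqd
  simp only [Bool.and_eq_true, Bool.or_eq_true, beq_iff_eq] at hqd
  obtain ⟨⟨⟨⟨⟨⟨⟨⟨⟨⟨q0, q1⟩, q2⟩, q3⟩, q4⟩, q5⟩, q6⟩, q7⟩, q8⟩, q9⟩, q10⟩ := hqd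
  have := fcase2 (a := a) hK hφ (m := [mul4 c c, 0]) (by simp) rfl (v := 5 - [mul4 c c, 0].getD 0 0) (by
      rcases hc23 with rfl | rfl <;> decide)
    ⟨D4.fquad_ok, q1, q2, q3, q4⟩ (hG j) hSG ho hu hv hk
    (by
      simp only [List.map_append, List.prod_append] at hprod'' ⊢
      rw [mul_comm ((List.replicate j _).map cd).prod]
      exact hprod''.symm)
    (fun _ => ⟨q5, q6, q7, q8⟩) (fun _ => q9) (fun _ => q10)
  refine this.perm (perm_of_mset ?_)
  simp only [← Multiset.coe_add]
  abel

omit hK hφ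

/-- **The factorisations over four elements.** -/
theorem slFacU_four [Invol σ] (h4 : Fintype.card K = 4) {m e : ℕ} (hm : 4 ≤ m) : SLFacU σ m e := by
  intro M hdet hns
  have hσ := sigma_sq (σ := σ) h4
  obtain ⟨b, hb⟩ := exists_omega (K := K) h4
  obtain ⟨ψ, hψ⟩ := exists_chosen4 (σ := σ) h4 hσ
  obtain ⟨l, hl, hg⟩ := good_all (a := b) (fun x => h4 ▸ FiniteField.pow_card x) hψ hm hdet hns
  obtain ⟨Φ, hΦ, A, P, hA, hP, hAΦ, hM⟩ := hg m M hl
  refine ⟨Φ, A, P, by rw [hA]; exact one_ne_zero, hP, hAΦ, TFree.coprime (tfree_S4 hσ hψ) hΦ hΦ,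
    ⟨fun _ => by rw [hA, map_one], fun _ => ?_⟩, Or.inl hM⟩
  rw [hA, map_one, div_one]
  exact eval_S4 hψ hΦ

end H31.Com.Uni
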